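import Cfsg.Agent.H52.Fi22Inv

/-! The base of a group of type M(22), and its three classes of involutions. -/

set_option autoImplicit false
set_option maxRecDepth 100000
set_option exponentiation.threshold 400000

namespace Cfsg.Agent.H52.Fi

open Cfsg.Agent.H58 Cfsg.Agent.H95 Cfsg.Agent.H96

variable {G : Type*} [Group G] {D : Set G} {T : LModel G D}

/-- the points commuting with some point of the list -/
noncomputable def nbU (K : Dat) (l : List Pt) : ℕ :=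
  List.rec (motive := fun _ => ℕ) 0
    (fun p _ ih => frcN (Nat.lor (Nat.lor (K.perp p) (K.sing p))) ih) l

theorem mem_cperp {p : Pt} (hp : T.dat.okP p = true) {x : G} :
    x ∈ T.st (Nat.lor (T.dat.perp p) (T.dat.sing p)) ↔ x ∈ D ∧ Commute (T.val p) x := by
  rw [T.st_lor, T.st_perp hp, T.st_sing hp, Set.mem_union, mem_nb, Set.mem_singleton_iff]
  constructor
  · rintro (h | rfl)
    exacts [⟨h.1, h.2.2⟩, ⟨T.val_mem hp, Commute.refl _⟩]
  · rintro ⟨h1, h2⟩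
    by_cases e : x = T.val p
    exacts [Or.inr e, Or.inl ⟨h1, e, h2⟩]

theorem mem_nbU {l : List Pt} (hl : l.all T.dat.okP = true) {x : G} :
    x ∈ T.st (nbU T.dat l) ↔ x ∈ D ∧ ∃ p ∈ l, Commute (T.val p) x := by
  induction l with
  | nil =>
    show x ∈ T.st 0 ↔ _
    rw [T.st_zero]; simp
  | cons p l ih =>
    rw [List.all_cons, Bool.and_eq_true] at hl
    show x ∈ T.st (frcN (Nat.lor _) (nbU _ l)) ↔ _
    rw [frcN_eq, T.st_lor, Set.mem_union, mem_cperp hl.1, ih hl.2, List.exists_mem_cons_iff]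
    tauto

/-- the conjugates of a mask by the points of a list -/
noncomputable def imgs (K : Dat) (l : List Pt) (R : ℕ) : ℕ :=
  List.rec (motive := fun _ => ℕ) 0 (fun p _ ih => frcN (Nat.lor (K.img (rfW p) R)) ih) l

theorem mem_imgs {l : List Pt} (hl : l.all T.dat.okP = true) {R : ℕ} {x : G} :
    x ∈ T.st (imgs T.dat l R) ↔ ∃ p ∈ l, ∃ y ∈ T.st R, cj (T.val p) y = x := by
  induction l with
  | nil =>
    show x ∈ T.st 0 ↔ _
    rw [T.st_zero]; simp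
  | cons p l ih =>
    rw [List.all_cons, Bool.and_eq_true] at hl
    show x ∈ T.st (frcN (Nat.lor _) (imgs _ l R)) ↔ _
    rw [frcN_eq, T.st_lor, Set.mem_union, ih hl.2, List.exists_mem_cons_iff,
      T.st_img (okW_rfW T hl.1), T.wv_rfW hl.1]
    rfl

theorem map_cj {H : Type*} [Group H] {F : Type*} [FunLike F G H] [MonoidHomClass F G H] (f : F)
    (g x : G) : f (cj g x) = cj (f g) (f x) := by
  rw [cj, cj, map_mul, map_mul, map_inv]

/-- an involutory automorphism without fixed member of `D` keeps a base -/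
theorem exists_base_inv [Finite G] (φ : MulAut G)
    (h1 : ∀ x, φ (φ x) = x) (h2 : ∀ d ∈ D, φ d ∈ D) (h3 : ∀ d ∈ D, Commute d (φ d)) :
    ∃ E, IsBase D E ∧ ∀ x ∈ E, φ x ∈ E := by
  obtain ⟨E, -, hE⟩ := Finite.exists_le_maximal
    (p := fun E : Set G => E ⊆ D ∧ (∀ a ∈ E, ∀ b ∈ E, Commute a b) ∧ ∀ x ∈ E, φ x ∈ E) (a := ∅)
    ⟨by simp, by simp, by simp⟩
  refine ⟨E, ⟨hE.1.1, hE.1.2.1, fun x hx hc => ?_⟩, hE.1.2.2⟩
  have hc' : ∀ a ∈ E, Commute (φ x) a := fun a ha => h1 a ▸ (hc _ (hE.1.2.2 a ha)).map φ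
  refine hE.2 (y := insert x (insert (φ x) E)) ⟨?_, ?_, ?_⟩ (fun y hy => Or.inr (Or.inr hy))
    (Or.inl rfl)
  · rintro y (rfl | rfl | hy)
    exacts [hx, h2 x hx, hE.1.1 hy]
  · rintro a (rfl | rfl | ha) b (rfl | rfl | hb)
    exacts [Commute.refl _, h3 _ hx, hc b hb, (h3 _ hx).symm, Commute.refl _, hc' b hb,
      (hc a ha).symm, (hc' a ha).symm, hE.1.2.1 a ha b hb]
  · rintro y (rfl | rfl | hy)
    exacts [Or.inr (Or.inl rfl), Or.inl (h1 x), Or.inr (Or.inr (hE.1.2.2 y hy))]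

namespace I22

def bas : List Pt := [([4, 8, 9, 5, 4, 8, 2, 3, 4, 5, 1, 2, 3, 4, 8, 9, 4, 5, 6, 3, 4, 5, 2, 3, 4, 8, 7, 6, 5, 4, 3, 2], 1), ([4, 8, 9, 3, 4, 8, 2, 3, 4, 5, 1, 2, 3, 4, 8, 9, 4, 5, 6, 3, 4, 5, 2, 3, 4, 8, 7, 6, 5, 4, 3, 2], 1), ([9, 8, 2, 3, 4, 5, 1, 2, 3, 4, 8, 9, 4, 8, 6, 3, 4, 5, 2, 3, 4, 8, 7, 6, 5, 4, 3, 2], 1), ([9, 8, 2, 3, 4, 5, 1, 2, 3, 4, 8, 9, 4, 5, 6, 3, 4, 5, 2, 3, 4, 8, 7, 6, 5, 4, 3, 2], 1), ([9, 8, 4, 5, 3, 4, 8, 9, 4, 8, 5, 6, 4, 5, 2, 3, 4, 8, 7, 6, 5, 4, 3, 2], 1), ([9, 8, 4, 5, 3, 4, 8, 9, 4, 8, 6, 3, 4, 5, 2, 3, 4, 8, 7, 6, 5, 4, 3, 2], 1), ([9, 8, 4, 5, 3, 4, 8, 9, 4, 5, 6, 3, 4, 5, 2, 3, 4, 8, 7, 6, 5, 4, 3, 2], 1), ([9, 8, 4, 5, 3, 4, 8, 9, 6, 5, 2, 3, 4, 8, 7, 6, 5, 4, 3, 2], 1), ([2, 3, 4, 8, 5, 6, 4, 5, 3, 4, 8, 7, 6, 5, 4, 3], 2), ([4, 8, 5, 6, 4, 5, 2, 3, 4, 8, 7, 6, 5, 4, 3, 2], 1), ([6, 5, 4, 8, 3, 4, 5, 2, 3, 4, 8, 6, 5, 4, 3, 2], 1), ([4, 8, 6, 3, 4, 5, 2,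 3, 4, 8, 7, 6, 5, 4, 3, 2], 1), ([4, 5, 6, 3, 4, 5, 2, 3, 4, 8, 7, 6, 5, 4, 3, 2], 1), ([6, 5, 2, 3, 4, 8, 7, 6, 5, 4, 3, 2], 1), ([6, 5, 4, 8, 7, 6, 5, 4], 3), ([2, 3, 4, 8, 5, 4, 3, 2], 1), ([4, 8, 5, 4], 3), ([], 7), ([], 8), ([], 5), ([], 3), ([], 1)]
def e0 : Pt := ([9, 4, 8, 6, 5, 4, 3], 2)
def BM : ℕ := nat_lit 0x18000000000000000000000000000000000000000000000000000000000000000000000000000000000000000000000000000000000000000000000000000000000000000000000000000000000000000000000000000000010000000000000000000020000000000000000000000000000000000000000000000000000000000000000000000000000000000000000000000000000000000000000000000000000000000000000000000000000000000000000000000000000000000000000000000000000000000000008000000000040000040000000000000000000000000000000000000000000000000000000000000000000000000000000000000000000000000000000000000000000000000000000000000000000000000000020000000000000000000000000000000000000000000000000000000000000000000000000000000000000000000000000000000000000000000000000000000000000000000020000000000000000820480000000000000000000000000000000000000000000000000000000000000000008000000000000100000010000000080000000004000880011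
def OM : ℕ := nat_lit 0x1880024814485b5787f80581bf3ecceec8ddf7ab7fd5d21ff82cd37687bffebffd5d3ffbd9fffde56ff4901e000e07b6efb11afb76fa86dfb8e8bf0a20fe7f87541e3d134dfa000ce10100750cb4410f9278fc3e801ac404829ae800079302401655802068b44142c0000c08400163343f16f91ff00012043002bc0000048114005aa000282a0c100128000001ed2a21ffbffc97701028308006f8000202831004acc003041000cc0000d05ff861d5efe7a06aed818208001ee0001820800cda0040000d0003f40fdce937d8e18c003ced0200001d010c1000035000001001eff801dc18f777f8200001d4000010101c000080000004efede000880e775f9f002008000002254000000007800fee021c00000768ff8202200001b80a800000030b9001013d401000102a5107e00800003a02000000380040222240b0000004842a00e0000020000000014000039005418000005006018000000002080300003e020d8800011818200000004c00c080001f831c000064200000001900300001f19800040000000c230000f68000000005b4000740000003a00030000018011c004700e7039c0721c801008000000000000000000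
theorem bE : endOK K22 [] [([9, 4, 8, 6, 5, 4, 3], 2), ([], 1), ([], 3), ([], 5), ([], 8), ([], 7), ([4, 8, 5, 4], 3)] [1, 2, 3, 4, 5, 6, 0, 1, 5, 2, 4, 3, 0, 4, 2, 3, 1, 5, 6, 0, 1, 5, 2, 4, 3, 0, 4, 2, 3, 1, 5] = true := by decide +kernel

theorem b0 : bas.all K22.okP = true := by decide +kernel
theorem b1 : sings K22 bas = BM := by decide +kernel
theorem b2 : bas.all (fun p => Nat.beq (dif BM (Nat.lor (K22.perp p) (K22.sing p))) 0) = true := by
  decide +kernel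
theorem b3 : Nat.beq (dif (K22.cperps K22.full [([], 1), ([], 3), ([], 5), ([], 8)]) BM) 0 = true := by
  decide +kernel
theorem b4 : dif K22.full (nbU K22 bas) = OM := by decide +kernel
theorem b5 : K22.allIn [e0] OM = true := by decide +kernel
theorem b6 : Nat.beq (dif (Nat.land OM (K22.perp e0)) (frcN (imgs K22 bas) (imgs K22 bas (K22.sing e0)))) 0 =
    true := by decide +kernel
theorem b7 : K22.allIn [([], 1), ([], 3), ([], 5), ([], 8), ([], 7), ([4, 8, 5, 4], 3)] BM = true := by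
  decide +kernel
theorem b8 : K22.cntIs 12 22 BM = true := by decide +kernel
theorem b9 : K22.cntIs 12 1024 OM = true := by decide +kernel
theorem m2 : wmv K22 [1, 3, 2, 4, 1, 3, 2, 4] ([], 1) = true := by decide +kernel
theorem m3 : wmv K22 [1, 3, 2, 4, 1, 3, 2, 4, 1, 3, 2, 4] ([], 1) = true := by decide +kernel
theorem m4 : wmv K22 [1, 3, 5, 2, 4, 6, 1, 3, 5, 2, 4, 6] ([], 1) = true := by decide +kernel
theorem m5 : wmv K22 [1, 3, 5, 2, 4, 6, 1, 3, 5, 2, 4, 6, 1, 3, 5, 2, 4, 6] ([], 1) = true := by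
  decide +kernel
theorem q3 : clq K22 [([], 2), ([], 4), ([], 6)] = true := by decide +kernel

end I22

open I22

namespace Is22

variable (h : Is22 T)
include h

theorem mem_BM {x : G} : x ∈ T.st BM ↔ x ∈ bas.map T.val := b1 ▸ h.mem_sings b0

theorem allIn {ps : List Pt} {R : ℕ} (h1 : K22.allIn ps R = true) : ∀ p ∈ ps, T.val p ∈ T.st R :=
  fun p hp => (T.allIn_sound (h.dat ▸ h1) p hp).2

/-- the 22 points form a base -/
theorem isBase : IsBase D (T.st BM) := by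
  refine ⟨T.st_subset _, fun a ha b hb => ?_, fun x hx hc => ?_⟩
  · obtain ⟨p, hp, rfl⟩ := List.mem_map.1 (h.mem_BM.1 ha)
    have := T.subset_of_dif (List.all_eq_true.1 b2 p hp) hb
    rw [← h.dat] at this
    exact ((mem_cperp (h.okP (List.all_eq_true.1 b0 p hp))).1 this).2
  · refine T.subset_of_dif b3 ?_
    rw [← h.dat]
    refine T.mem_cperps (by rw [T.st_full]; exact hx) fun p hp => ⟨h.okP (by revert p; decide),
      (hc _ (h.allIn b7 p (by revert p; decide))).symm⟩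

theorem mem_OM {x : G} : x ∈ T.st OM ↔ x ∈ D ∧ ∀ b ∈ T.st BM, ¬ Commute b x := by
  rw [← b4, T.st_dif, ← h.dat, T.st_full, Set.mem_sdiff, mem_nbU (h.dat ▸ b0)]
  refine and_congr_right fun hx => ⟨fun h1 b hb hc => ?_, fun h1 ⟨_, p, hp, hc⟩ => ?_⟩
  · obtain ⟨p, hp, rfl⟩ := List.mem_map.1 (h.mem_BM.1 hb)
    exact h1 ⟨hx, p, hp, hc⟩
  · exact h1 _ (h.mem_BM.2 (List.mem_map.2 ⟨p, hp, rfl⟩)) hc

theorem e0_mem : T.val e0 ∈ T.st OM := h.allIn b5 _ List.mem_cons_self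

/-- the base and one more point have trivial centraliser -/
theorem eq_one_of_base {g : G} (h1 : ∀ b ∈ T.st BM, Commute g b) (h2 : Commute g (T.val e0)) :
    g = 1 := by
  have h3 := CC_eq_bot T h.gen h.lm (h.dat ▸ bE)
  refine Subgroup.mem_bot.1 (h3 ▸ ⟨by simp, fun p hp => ?_⟩)
  rcases List.mem_cons.1 hp with rfl | hp
  exacts [h2, h1 _ (h.allIn b7 p hp)]

theorem exists_pair {x : G} (h1 : x ∈ T.st OM) (h2 : x ∈ nb D (T.val e0)) :
    ∃ b ∈ T.st BM, ∃ b' ∈ T.st BM, cj b (cj b' (T.val e0)) = x := by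
  have h3 : x ∈ T.st (Nat.land OM (K22.perp e0)) := by
    rw [T.st_land, ← h.dat, T.st_perp (h.okP (by decide))]; exact ⟨h1, h2⟩
  have h4 := T.subset_of_dif b6 h3
  rw [frcN_eq, ← h.dat] at h4
  obtain ⟨p, hp, y, hy, rfl⟩ := (mem_imgs (h.dat ▸ b0)).1 h4
  obtain ⟨q, hq, z, hz, rfl⟩ := (mem_imgs (h.dat ▸ b0)).1 hy
  rw [T.st_sing (h.okP (by decide))] at hz
  exact ⟨_, h.mem_BM.2 (List.mem_map.2 ⟨p, hp, rfl⟩), _, h.mem_BM.2 (List.mem_map.2 ⟨q, hq, rfl⟩),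
    by rw [hz]⟩

theorem fix_of_base (φ : MulAut G) (h1 : ∀ x, φ (φ x) = x) (h2 : ∀ d ∈ D, φ d ∈ D)
    (h3 : ∀ b ∈ T.st BM, φ b ∈ T.st BM) (h4 : ∀ d ∈ D, Commute d (φ d)) : ∃ d ∈ D, φ d = d := by
  by_contra h5
  push Not at h5
  have hB := h.isBase
  have he := h.mem_OM.1 h.e0_mem
  obtain ⟨b, hb, c, hc, e⟩ := h.exists_pair (x := φ (T.val e0))
    (h.mem_OM.2 ⟨h2 _ he.1, fun b hb hc => he.2 _ (h3 b hb) (h1 (T.val e0) ▸ hc.map φ)⟩)
    ⟨h2 _ he.1, h5 _ he.1, h4 _ he.1⟩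
  have hbc : c ∈ nb D b := ⟨hB.1 hc, fun e1 => h5 _ he.1 (by
    rw [← e, e1, TT.cj_cj_self T.tt (hB.1 hb)]), hB.2.1 b hb c hc⟩
  have e1 : φ b * φ c * (b * c) = 1 := h.eq_one_of_base
    (fun x hx => ((hB.2.1 _ (h3 b hb) x hx).mul_left (hB.2.1 _ (h3 c hc) x hx)).mul_left
      ((hB.2.1 _ hb x hx).mul_left (hB.2.1 _ hc x hx)))
    (cj_eq_self_iff.1 (by rw [cj_mul, cj_mul b, e, cj_mul, ← map_cj, ← map_cj, e, h1]))
  have e2 : φ b * φ c = b * c := eq_of_mul_eq_one' (by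
    rw [← pow_two, hbc.2.2.mul_pow, pow_two, pow_two, TT.mul_self T.tt (hB.1 hb),
      TT.mul_self T.tt hbc.1, one_mul]) e1
  have e3 := (h.pair_eq (hB.1 hb) hbc (h2 _ (hB.1 hb))
    ⟨h2 _ hbc.1, φ.injective.ne hbc.2.1, hbc.2.2.map φ⟩ e2).resolve_left (h5 _ (hB.1 hb))
  refine h5 _ (T.conj_mem b he.1) ?_
  rw [map_cj, e3, ← e, ← cj_comm hbc.2.2, TT.cj_cj_self T.tt hbc.1]

/-- an involutory automorphism that keeps `D` fixes a member of `D` -/
theorem fix_of_aut (φ : MulAut G) (h1 : ∀ x, φ (φ x) = x) (h2 : ∀ d ∈ D, φ d ∈ D) :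
    ∃ d ∈ D, φ d = d := by
  have := h.finite
  by_cases h4 : ∀ d ∈ D, Commute d (φ d)
  swap
  · push Not at h4
    obtain ⟨d, hd, hc⟩ := h4
    exact ⟨_, T.conj_mem d (h2 d hd), by rw [map_cj, h1, TT.cj_swap T.tt hd (h2 d hd) hc]⟩
  obtain ⟨E, hE, hE'⟩ := exists_base_inv φ h1 h2 h4
  obtain ⟨g, -, e⟩ := IsBase.exists_conj T.tt T.conj_mem hE h.isBase ⊤ (fun _ _ => trivial)
    fun _ _ => trivial
  have k : ∀ x, (MulAut.conj g * φ * (MulAut.conj g)⁻¹) x = cj g (φ (cj g⁻¹ x)) := fun x => by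
    simp [cj]
  obtain ⟨d, hd, e1⟩ := h.fix_of_base (MulAut.conj g * φ * (MulAut.conj g)⁻¹)
    (fun x => by rw [k, k, cj_inv_cj, h1, cj_cj_inv])
    (fun d hd => k d ▸ T.conj_mem _ (h2 _ (T.conj_mem _ hd)))
    (fun b hb => by
      rw [← e] at hb ⊢
      obtain ⟨x, hx, rfl⟩ := hb
      rw [k, cj_inv_cj]; exact ⟨_, hE' x hx, rfl⟩)
    (fun d hd => by
      rw [k, ← commute_cj g⁻¹, cj_inv_cj]; exact h4 _ (T.conj_mem _ hd))
  exact ⟨_, T.conj_mem g⁻¹ hd, by rw [k] at e1; exact cj_eq_iff.1 e1⟩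

theorem orderOf_cp2 {x : G} (hx : CP D 2 x) : orderOf x = 2 := by
  refine orderOf_eq_two_of ?_ fun e => ?_
  · obtain ⟨l, hl⟩ := hx
    obtain ⟨a, b, -, ha, hb, rfl⟩ := hl.two
    rw [← pow_two, hb.2.2.mul_pow, pow_two, pow_two, TT.mul_self T.tt ha,
      TT.mul_self T.tt hb.1, one_mul]
  · have h1 := h.fixc2 hx
    rw [e, Fi.fixc, show Subgroup.centralizer {(1 : G)} = ⊤ from eq_top_iff.2 fun g _ =>
      mem_cent.2 (Commute.one_right g), Subgroup.coe_top, Set.inter_univ, h.ncard_D] at h1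
    exact absurd h1 (by decide)

theorem orderOf_cp3 {x : G} (hx : CP D 3 x) : orderOf x = 2 := by
  refine orderOf_eq_two_of ?_ fun e => ?_
  · obtain ⟨l, hl⟩ := hx
    obtain ⟨a, b, c, -, ha, hb, hc, hc', rfl⟩ := hl.three
    rw [← pow_two, (hc.2.2.mul_left hc'.2.2).mul_pow, hb.2.2.mul_pow, pow_two, pow_two, pow_two,
      TT.mul_self T.tt ha, TT.mul_self T.tt hb.1, TT.mul_self T.tt hc.1, one_mul, one_mul]
  · have h1 := h.fixc3 hx
    rw [e, Fi.fixc, show Subgroup.centralizer {(1 : G)} = ⊤ from eq_top_iff.2 fun g _ =>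
      mem_cent.2 (Commute.one_right g), Subgroup.coe_top, Set.inter_univ, h.ncard_D] at h1
    exact absurd h1 (by decide)

/-- every involution is a product of at most three commuting members of `D` -/
theorem inv_cases {x : G} (hx : orderOf x = 2) : x ∈ D ∨ CP D 2 x ∨ CP D 3 x := by
  have hxx := mul_self_of_orderOf hx
  obtain ⟨d, hd, e⟩ := h.fix_of_aut (MulAut.conj x)
    (fun y => show cj x (cj x y) = y by rw [← cj_mul, hxx, cj_one]) fun _ => T.conj_mem x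
  obtain ⟨g, e1⟩ := h.tr1 hd
  suffices H : cj g x ∈ D ∨ CP D 2 (cj g x) ∨ CP D 3 (cj g x) by
    rw [← cj_inv_cj g x]
    exact H.imp (T.conj_mem _) (Or.imp (·.cj T.conj_mem _) (·.cj T.conj_mem _))
  have hc : Commute (cj g x) (T.el 1) := e1 ▸ (commute_cj g).2 (cj_eq_self_iff.1 e)
  have ho : orderOf (cj g x) = 2 := ((MulAut.conj g).orderOf_eq x).trans hx
  generalize cj g x = z at hc ho
  have ha := h.el_mem (y := 1) le_rfl (by decide)
  by_cases hz : z = T.el 1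
  · exact Or.inl (hz ▸ ha)
  obtain ⟨r, r1, r2⟩ := h.rank
  obtain ⟨⟨n1, n2, n3⟩, ⟨n4, n5⟩, n6⟩ := h.nb4
  have p1 : T.el 3 ∈ D := n1.1
  have p1' : CP D 2 (T.el 3 * T.el 1) := n1.2.2.eq ▸ h.cp2
  have p2 : CP D 2 (T.el 3 * T.el 5) := ⟨_, cl_two p1 n4⟩
  have p2' : CP D 3 (T.el 3 * T.el 5 * T.el 1) :=
    ⟨_, cl_three p1 n4 (mem_nb_symm ha n1) (mem_nb_symm ha n2)⟩
  have p3 : CP D 3 (T.el 3 * T.el 5 * T.el 8) := ⟨_, cl_three p1 n4 n5 n6⟩
  have p3' : CP D 3 (T.el 3 * T.el 5 * T.el 8 * T.el 1) := by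
    rw [← ((n1.2.2.mul_right n2.2.2).mul_right n3.2.2).eq, ← mul_assoc, ← mul_assoc]; exact h.cp3'
  have c1 := n1.2.2.symm
  have c2 := c1.mul_left n2.2.2.symm
  have c3 := c2.mul_left n3.2.2.symm
  have o1 := T.tt.1 _ p1
  have o2 := h.orderOf_cp2 p2
  have o3 := h.orderOf_cp3 p3
  have d1 := n1.2.1
  have d2 : T.el 3 * T.el 5 ≠ T.el 1 := fun e => by
    have := h.fixc2 p2; rw [e, h.fixc1 ha] at this; exact absurd this (by decide)
  have d3 : T.el 3 * T.el 5 * T.el 8 ≠ T.el 1 := fun e => by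
    have := h.fixc3 p3; rw [e, h.fixc1 ha] at this; exact absurd this (by decide)
  have key : ∀ {u v : G} {k : G}, cj k u = v → Fi.fixc D u = Fi.fixc D v := fun e =>
    e ▸ (fixc_cj T _ _).symm
  have s12 : r (T.el 3) ≠ r (T.el 3 * T.el 5) := fun e => by
    obtain ⟨k, e | e⟩ := r2 _ _ c1 o1 d1 c2 o2 d2 e <;> have := key e
    · rw [h.fixc2 p2, h.fixc1 p1] at this; exact absurd this (by decide)
    · rw [h.fixc3 p2', h.fixc1 p1] at this; exact absurd this (by decide)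
  have s13 : r (T.el 3) ≠ r (T.el 3 * T.el 5 * T.el 8) := fun e => by
    obtain ⟨k, e | e⟩ := r2 _ _ c1 o1 d1 c3 o3 d3 e <;> have := key e
    · rw [h.fixc3 p3, h.fixc1 p1] at this; exact absurd this (by decide)
    · rw [h.fixc3 p3', h.fixc1 p1] at this; exact absurd this (by decide)
  have s23 : r (T.el 3 * T.el 5) ≠ r (T.el 3 * T.el 5 * T.el 8) := fun e => by
    obtain ⟨k, e | e⟩ := r2 _ _ c2 o2 d2 c3 o3 d3 e <;> have := key e
    · rw [h.fixc3 p3, h.fixc2 p2] at this; exact absurd this (by decide)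
    · rw [h.fixc3 p3', h.fixc2 p2] at this; exact absurd this (by decide)
  have a0 := r1 _ hc ho hz
  have a1 := r1 _ c1 o1 d1
  have a2 := r1 _ c2 o2 d2
  have a3 := r1 _ c3 o3 d3
  have : r z = r (T.el 3) ∨ r z = r (T.el 3 * T.el 5) ∨ r z = r (T.el 3 * T.el 5 * T.el 8) := by
    omega
  rcases this with e | e | e
  · obtain ⟨k, rfl | rfl⟩ := r2 _ _ hc ho hz c1 o1 d1 e
    exacts [Or.inl (T.conj_mem _ p1), Or.inr (Or.inl (p1'.cj T.conj_mem _))]
  · obtain ⟨k, rfl | rfl⟩ := r2 _ _ hc ho hz c2 o2 d2 e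
    exacts [Or.inr (Or.inl (p2.cj T.conj_mem _)), Or.inr (Or.inr (p2'.cj T.conj_mem _))]
  · obtain ⟨k, rfl | rfl⟩ := r2 _ _ hc ho hz c3 o3 d3 e
    exacts [Or.inr (Or.inr (p3.cj T.conj_mem _)), Or.inr (Or.inr (p3'.cj T.conj_mem _))]

theorem ne_one {u : List ℕ} {p : Pt} (h1 : wmv K22 u p = true) : wv T.el u ≠ 1 :=
  ne_one_of_wmv T (h.dat ▸ h1)

/-- `D` is the only non-empty normal set of 3-transpositions inside one class -/
theorem class_unique {D' : Set G} (hD' : IsThreeTranspositionSet D') {d : G}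
    (e : D' = conjugatesOf d) : D' = D := by
  have hd : d ∈ D' := e ▸ IsConj.refl d
  have k : ∀ {x g k : G} {y : G}, cj g d = y → cj k x = y → x ∈ D' := fun {x g k y} e1 e2 =>
    e ▸ isConj_iff.2 ⟨k⁻¹ * g, by rw [← cj_def, cj_mul, e1, ← e2, cj_inv_cj]⟩
  have q : (T.el 4 ∈ nb D (T.el 2) ∧ T.el 6 ∈ nb D (T.el 2)) ∧ T.el 6 ∈ nb D (T.el 4) := by
    simpa [T.val_letter] using h.clq q3
  have hb := h.el_mem (y := 2) (by decide) (by decide)
  rcases h.inv_cases (hD'.1 d hd) with h1 | h1 | h1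
  · rw [e, T.D_eq]
    obtain ⟨g, rfl⟩ := T.exists_conj h1
    exact (isConj_iff_conjugatesOf_eq.1 (isConj_iff.2 ⟨g, rfl⟩)).symm
  · obtain ⟨g, e1⟩ := h.conj2 h1
    obtain ⟨u, e2⟩ := h.conj2 ⟨_, cl_two hb q.1.1⟩
    rcases hD'.2 _ (k e1 (cj_one _)) _ (k e1 e2) with h2 | h2
    · exact (h.ne_one m2 (by simpa [wv, pow_succ, mul_assoc] using h2)).elim
    · exact (h.ne_one m3 (by simpa [wv, pow_succ, mul_assoc] using h2)).elim
  · obtain ⟨g, e1⟩ := h.conj3 h1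
    obtain ⟨u, e2⟩ := h.conj3 ⟨_, cl_three hb q.1.1 q.1.2 q.2⟩
    rcases hD'.2 _ (k e1 (cj_one _)) _ (k e1 e2) with h2 | h2
    · exact (h.ne_one m4 (by simpa [wv, pow_succ, mul_assoc] using h2)).elim
    · exact (h.ne_one m5 (by simpa [wv, pow_succ, mul_assoc] using h2)).elim

/-- every automorphism keeps `D` -/
theorem aut_mem (φ : MulAut G) {d : G} (hd : d ∈ D) : φ d ∈ D := by
  have h1 : φ '' D = conjugatesOf (φ T.t) := by
    ext x
    constructor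
    · rintro ⟨y, hy, rfl⟩
      exact φ.toMonoidHom.map_isConj ((T.hD y).1 hy)
    · intro hx
      refine ⟨φ.symm x, (T.hD _).2 ?_, φ.apply_symm_apply x⟩
      simpa using φ.symm.toMonoidHom.map_isConj hx
  rw [← h.class_unique (TT.image T.tt φ.toMonoidHom fun d hd e =>
    TT.ne_one T.tt hd (by simpa using e)) h1]
  exact ⟨d, hd, rfl⟩

end Is22

end Cfsg.Agent.H52.Fi
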