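/-
Groups with all elements of prime power order: Frattini arguments with Sylow subgroups of prime
order.
-/
import Cfsg.Agent.H81.Eppo
import Cfsg.Agent.H2.FpfCyclic
import Cfsg.Agent.H71.Invert
import Cfsg.Agent.H49.Prod
import Cfsg.Agent.S0042

set_option autoImplicit false

namespace Cfsg.Agent.H52

open Subgroup

variable {G : Type*} [Group G] [Finite G]

theorem relIndex_cent_dvd {P : Subgroup G} {s : ℕ} (hs : s.Prime) (hP : Nat.card P = s) :
    (centralizer (P : Set G)).relIndex (normalizer (P : Set G)) ∣ s - 1 := by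
  have := Fact.mk hs
  have hc : IsCyclic P := isCyclic_of_prime_card hP
  have key := card_dvd_of_injective _ (QuotientGroup.kerLift_injective P.normalizerMonoidHom)
  rw [normalizerMonoidHom_ker, ← index, ← relIndex, hc.card_mulAut, hP,
    Nat.totient_prime hs] at key
  exact key

theorem eppo_cent_isPGroup (h : H81.Eppo G) {P : Subgroup G} {s : ℕ} (hs : s.Prime)
    (hP : Nat.card P = s) : IsPGroup s (centralizer (P : Set G)) := by
  have := Fact.mk hs
  obtain ⟨x, hx⟩ := exists_prime_orderOf_dvd_card' (G := P) s hP.symm.dvd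
  exact (h.isPGroup_centralizer hs (b := (x : G)) (by rw [Subgroup.orderOf_coe, hx])).to_le
    (centralizer_le (Set.singleton_subset_iff.2 x.2))

theorem eppo_card_normalizer_dvd (h : H81.Eppo G) {P : Subgroup G} {s : ℕ} (hs : s.Prime)
    (hP : Nat.card P = s) : ∃ k, Nat.card (normalizer (P : Set G)) ∣ s ^ k * (s - 1) := by
  have := Fact.mk hs
  obtain ⟨k, hk⟩ := IsPGroup.iff_card.1 (eppo_cent_isPGroup h hs hP)
  refine ⟨k, ?_⟩
  rw [← ((centralizer (P : Set G)).subgroupOf (normalizer (P : Set G))).card_mul_index,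
    Nat.card_congr (subgroupOfEquivOfLe (centralizer_le_normalizer _)).toEquiv, hk]
  exact Nat.mul_dvd_mul_left _ (relIndex_cent_dvd hs hP)

omit [Finite G] in
theorem index_dvd_card_of_sup_eq_top {M H : Subgroup G} [M.Normal] (h : H ⊔ M = ⊤) :
    M.index ∣ Nat.card H := by
  rw [← relIndex_top_right, ← h, relIndex_sup_right]
  exact relIndex_dvd_card _ _

theorem card_sylow_of_not_sq_dvd {s : ℕ} [Fact s.Prime] (P : Sylow s G) (h1 : s ∣ Nat.card G)
    (h2 : ¬ s ^ 2 ∣ Nat.card G) : Nat.card (P : Subgroup G) = s := by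
  have hs : s.Prime := Fact.out
  rw [Sylow.card_eq_multiplicity]
  have h3 : (Nat.card G).factorization s = 1 := by
    have a := (hs.dvd_iff_one_le_factorization Nat.card_pos.ne').1 h1
    have b := mt (hs.pow_dvd_iff_le_factorization Nat.card_pos.ne').2 h2
    omega
  rw [h3, pow_one]

theorem eppo_index_dvd (h : H81.Eppo G) (M : Subgroup G) [M.Normal] {s : ℕ} (hs : s.Prime)
    (h1 : s ∣ Nat.card M) (h2 : ¬ s ^ 2 ∣ Nat.card M) : ∃ k, M.index ∣ s ^ k * (s - 1) := by
  have := Fact.mk hs
  obtain ⟨P⟩ : Nonempty (Sylow s M) := inferInstance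
  obtain ⟨k, hk⟩ := eppo_card_normalizer_dvd h hs (P := (P : Subgroup M).map M.subtype)
    (by rw [card_map_of_injective M.subtype_injective, card_sylow_of_not_sq_dvd P h1 h2])
  exact ⟨k, (index_dvd_card_of_sup_eq_top P.normalizer_sup_eq_top).trans hk⟩

theorem eppo_card_comm (h : H81.Eppo G) (hc : ∀ x y : G, x * y = y * x)
    (hs : Squarefree (Nat.card G)) (K : Subgroup G) : K = ⊥ ∨ K = ⊤ := by
  by_contra hn
  rw [not_or] at hn
  obtain ⟨p, hp, h1⟩ := Nat.exists_prime_and_dvd (mt card_eq_one.1 hn.1)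
  obtain ⟨q, hq, h2⟩ := Nat.exists_prime_and_dvd (mt index_eq_one.1 hn.2)
  have := Fact.mk hp
  have := Fact.mk hq
  obtain ⟨x, hx⟩ := exists_prime_orderOf_dvd_card' p (h1.trans K.card_subgroup_dvd_card)
  obtain ⟨y, hy⟩ := exists_prime_orderOf_dvd_card' q (h2.trans K.index_dvd_card)
  have e := h.eq_of_commute (hc x y) hp hq hx.symm.dvd hy.symm.dvd
  subst e
  exact hp.not_isUnit (hs p (K.card_mul_index ▸ Nat.mul_dvd_mul h1 h2))

theorem eppo_index_dvd_pow (h : H81.Eppo G) (M : Subgroup G) [M.Normal] [IsSimpleGroup M]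
    (hM : ¬ IsMulCommutative M) {s : ℕ} (hs : s.Prime) (h1 : s ∣ Nat.card M)
    (h2 : ¬ s ^ 2 ∣ Nat.card M) (h3 : Squarefree (s - 1)) : ∃ k, M.index ∣ s ^ k := by
  have := Fact.mk hs
  obtain ⟨P₀⟩ : Nonempty (Sylow s M) := inferInstance
  have hP₀ := card_sylow_of_not_sq_dvd P₀ h1 h2
  set P : Subgroup G := (P₀ : Subgroup M).map M.subtype with hPdef
  have hP : Nat.card P = s := by rw [card_map_of_injective M.subtype_injective, hP₀]
  have hc : IsCyclic P := isCyclic_of_prime_card hP
  obtain ⟨k, hk⟩ := IsPGroup.iff_card.1 (eppo_cent_isPGroup h hs hP)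
  refine ⟨k, hk ▸ index_dvd_card_of_sup_eq_top ?_⟩
  set φ := P.normalizerMonoidHom.rangeRestrict
  have hker : ∀ g : normalizer (P : Set G), φ g = 1 ↔ (g : G) ∈ centralizer (P : Set G) := by
    intro g
    rw [← MonoidHom.mem_ker, MonoidHom.ker_rangeRestrict, normalizerMonoidHom_ker, mem_subgroupOf]
  have hE : H81.Eppo P.normalizerMonoidHom.range :=
    (h.subgroup _).of_surjective φ (MonoidHom.rangeRestrict_surjective _)
  have hcomm : ∀ x y : P.normalizerMonoidHom.range, x * y = y * x := fun x y =>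
    Subtype.ext ((IsCyclic.mulAutMulEquiv P).injective (by
      simp only [Subgroup.coe_mul, map_mul]; exact mul_comm _ _))
  have hsq : Squarefree (Nat.card P.normalizerMonoidHom.range) := by
    refine h3.squarefree_of_dvd ?_
    have := card_subgroup_dvd_card P.normalizerMonoidHom.range
    rwa [hc.card_mulAut, hP, Nat.totient_prime hs] at this
  rcases eppo_card_comm hE hcomm hsq ((M.subgroupOf (normalizer (P : Set G))).map φ) with e | e
  · exfalso
    have hle : normalizer ((P₀ : Subgroup M) : Set M) ≤ centralizer ((P₀ : Subgroup M) : Set M) := by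
      intro m hm
      have hm' : (m : G) ∈ normalizer (P : Set G) := le_normalizer_map _ (mem_map_of_mem _ hm)
      have h4 : φ ⟨m, hm'⟩ ∈ (M.subgroupOf (normalizer (P : Set G))).map φ :=
        mem_map_of_mem _ m.2
      rw [e, mem_bot, hker] at h4
      exact mem_centralizer_iff.2 fun y hy =>
        Subtype.ext (mem_centralizer_iff.1 h4 y (mem_map_of_mem _ hy))
    have hco := MonoidHom.ker_transferSylow_isComplement' P₀ hle
    rcases (MonoidHom.normal_ker (MonoidHom.transferSylow P₀ hle)).eq_bot_or_eq_top with e' | e'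
    · rw [e', isComplement'_bot_left] at hco
      rw [hco, card_top] at hP₀
      have : IsCyclic M := isCyclic_of_prime_card hP₀
      exact hM IsCyclic.isMulCommutative
    · rw [e', isComplement'_top_left] at hco
      rw [hco, card_bot] at hP₀
      exact hs.one_lt.ne hP₀
  · rw [eq_top_iff, ← P₀.normalizer_sup_eq_top]
    refine sup_le (fun g hg => ?_) le_sup_right
    obtain ⟨m, hm, e'⟩ : φ ⟨g, hg⟩ ∈ (M.subgroupOf (normalizer (P : Set G))).map φ :=
      e ▸ mem_top _
    have h4 : φ (⟨g, hg⟩ * m⁻¹) = 1 := by rw [map_mul, map_inv, e', mul_inv_cancel]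
    rw [hker] at h4
    have h5 := mul_mem (mem_sup_left (T := M) h4) (mem_sup_right (S := centralizer (P : Set G))
      (show (m : G) ∈ M from hm))
    simpa using h5

theorem eppo_eq_top (h : H81.Eppo G) (M : Subgroup G) [M.Normal] [IsSimpleGroup M]
    (hM : ¬ IsMulCommutative M) {s t : ℕ} (hs : s.Prime) (ht : t.Prime) (h1 : s ∣ Nat.card M)
    (h2 : ¬ s ^ 2 ∣ Nat.card M) (h3 : Squarefree (s - 1)) (h4 : t ∣ Nat.card M)
    (h5 : ¬ t ^ 2 ∣ Nat.card M) (h6 : s.Coprime t) (h7 : s.Coprime (t - 1)) : M = ⊤ := by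
  obtain ⟨k, hk⟩ := eppo_index_dvd_pow h M hM hs h1 h2 h3
  obtain ⟨j, hj⟩ := eppo_index_dvd h M ht h4 h5
  exact index_eq_one.1 (Nat.eq_one_of_dvd_coprimes
    (Nat.Coprime.pow_left k (Nat.Coprime.mul_right (h6.pow_right j) h7)) hk hj)

/-- The primes dividing the order of `G` divide the order of a non-nilpotent normal subgroup. -/
theorem eppo_dvd_card (h : H81.Eppo G) (M : Subgroup G) [M.Normal] (hM : ¬ Group.IsNilpotent M)
    {r : ℕ} (hr : r.Prime) (h1 : r ∣ Nat.card G) : r ∣ Nat.card M := by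
  have := Fact.mk hr
  by_contra hn
  obtain ⟨x, hx⟩ := exists_prime_orderOf_dvd_card' r h1
  refine hM (S0042.nilpotent_of_fpf M (s := x) (hx ▸ hr) ?_)
  rw [eq_bot_iff]
  intro y hy
  by_contra hy1
  obtain ⟨q, hq, h2⟩ := Nat.exists_prime_and_dvd (mt orderOf_eq_one_iff.1 hy1)
  have e := h.eq_of_commute (mem_centralizer_singleton_iff.1 hy.2) hq hr h2 hx.symm.dvd
  exact hn (e ▸ h2.trans (M.orderOf_dvd_natCard hy.1))

/-- No such group of order `2^k · 20160` has a non-trivial normal `2`-subgroup. -/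
theorem eppo_eq_bot_of_card (h : H81.Eppo G) (R : Subgroup G) [R.Normal] (hR : IsPGroup 2 R)
    {k : ℕ} (hG : Nat.card G = 2 ^ k * 20160) : R = ⊥ := by
  by_contra hR1
  have : Fact (Nat.Prime 7) := ⟨by norm_num⟩
  have : Fact (Nat.Prime 3) := ⟨by norm_num⟩
  obtain ⟨P⟩ : Nonempty (Sylow 7 G) := inferInstance
  have hP : Nat.card (P : Subgroup G) = 7 := by
    refine card_sylow_of_not_sq_dvd P (hG ▸ Dvd.dvd.mul_left (by norm_num) _) fun hd => ?_
    rw [hG] at hd
    exact absurd ((Nat.Coprime.pow 2 k (by norm_num)).dvd_of_dvd_mul_left hd) (by norm_num)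
  have hc : IsCyclic (P : Subgroup G) := isCyclic_of_prime_card hP
  have hC : centralizer ((P : Subgroup G) : Set G) = P :=
    P.is_maximal' (eppo_cent_isPGroup h (by norm_num) hP) (P : Subgroup G).le_centralizer
  have h1 := relIndex_cent_dvd (by norm_num) hP
  rw [hC] at h1
  have h2 : Nat.card (normalizer ((P : Subgroup G) : Set G)) =
      7 * (P : Subgroup G).relIndex (normalizer ((P : Subgroup G) : Set G)) := by
    rw [← ((P : Subgroup G).subgroupOf (normalizer ((P : Subgroup G) : Set G))).card_mul_index,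
      Nat.card_congr (subgroupOfEquivOfLe le_normalizer).toEquiv, hP, relIndex]
  have h3 := card_sylow_modEq_one 7 G
  rw [P.card_eq_index_normalizer] at h3
  have h4 := (normalizer ((P : Subgroup G) : Set G)).card_mul_index
  have h5 : 3 ∣ Nat.card (normalizer ((P : Subgroup G) : Set G)) := by
    rw [h2] at h4 ⊢
    rw [hG] at h4
    change (normalizer ((P : Subgroup G) : Set G)).index ≡ 1 [MOD 7] at h3
    generalize (P : Subgroup G).relIndex (normalizer ((P : Subgroup G) : Set G)) = e at h1 h4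
    generalize (normalizer ((P : Subgroup G) : Set G)).index = n at h3 h4
    have h6 : 2 ^ k % 7 = 1 ∨ 2 ^ k % 7 = 2 ∨ 2 ^ k % 7 = 4 := by
      clear hG h4
      induction k with
      | zero => simp
      | succ k ih => rw [pow_succ]; omega
    have h7 : e ≤ 6 := Nat.le_of_dvd (by norm_num) h1
    unfold Nat.ModEq at h3
    interval_cases e <;> omega
  obtain ⟨x, hx⟩ := exists_prime_orderOf_dvd_card' 3 h5
  obtain ⟨y, hy⟩ := exists_prime_orderOf_dvd_card' (G := (P : Subgroup G)) 7 hP.symm.dvd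
  rw [← Subgroup.orderOf_coe] at hx hy
  have hyP : zpowers (y : G) = P :=
    eq_of_le_of_card_ge (zpowers_le_of_mem y.2) (by rw [Nat.card_zpowers, hy, hP])
  have hA : Nat.card (zpowers (x : G) ⊔ (P : Subgroup G) : Subgroup G) ∣ 3 * 7 := by
    have := H49.card_sup_dvd (H := zpowers (x : G)) (K := (P : Subgroup G))
      (Or.inl (zpowers_le_of_mem x.2))
    rwa [Nat.card_zpowers, hx, hP] at this
  have e := H2.commute_of_fpf (A := zpowers (x : G) ⊔ (P : Subgroup G)) hR1 le_normalizer_of_normal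
    (fun a ha ha1 => h.inf_centralizer_eq_bot Nat.prime_two hR ha1 fun hd =>
      absurd ((hd.trans (Subgroup.orderOf_dvd_natCard _ ha)).trans hA) (by norm_num))
    (mem_sup_left (mem_zpowers _)) (mem_sup_right y.2) (by rw [hx]; norm_num)
    (by rw [hy]; norm_num) (by rw [hyP]; exact x.2)
  exact absurd (h.eq_of_commute e (by norm_num : Nat.Prime 3) (by norm_num : Nat.Prime 7)
    hx.symm.dvd hy.symm.dvd) (by norm_num)

end Cfsg.Agent.H52
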