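import Cfsg.Agent.H52.Fi22Cls
import Cfsg.Agent.H52.FiN

/-! Elements of order 7, 11 and 13 in a group of type M(22). -/

set_option autoImplicit false
set_option maxRecDepth 100000
set_option exponentiation.threshold 400000

namespace Cfsg.Agent.H52.Fi

open Cfsg.Agent.H58 Cfsg.Agent.H95 Cfsg.Agent.H96 Subgroup

variable {G : Type*} [Group G] {D : Set G} {T : LModel G D}

namespace Is22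

variable (h : Is22 T)
include h

theorem comap {G' : Type*} [Group G'] {D' : Set G'} (e : G' ≃* G) (he : e '' D' = D) :
    Is22 (lcomap T e he) :=
  ⟨h.dat, h.gen.lcomap e he, (Nat.card_congr e.toEquiv).trans h.card, h.rank.comap e⟩

/-- a conjugate of the model -/
theorem exists_conj (g : G) : ∃ T' : LModel G D, Is22 T' ∧ ∀ w, wv T'.el w = cj g (wv T.el w) :=
  let ⟨he, h1⟩ := exists_conj_model T g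
  ⟨_, h.comap _ he, h1⟩

/-- a subgroup conjugate to that of a word is the subgroup of the word in another model -/
theorem exists_model {w : List ℕ} {X : Subgroup G}
    (e : ∃ g : G, (zpowers (wv T.el w)).map (MulAut.conj g).toMonoidHom = X) :
    ∃ T' : LModel G D, Is22 T' ∧ X = zpowers (wv T'.el w) := by
  obtain ⟨g, rfl⟩ := e
  obtain ⟨T', h1, h2⟩ := h.exists_conj g
  exact ⟨T', h1, by rw [h2, map_zpowers_cj]⟩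

theorem pow_eq_one {w : List ℕ} {n : ℕ} (h1 : Fi.weq K22 (wpow w n) [] = true) :
    wv T.el w ^ n = 1 := (wv_wpow T w n).symm.trans (h.weq h1)

theorem ord {w : List ℕ} {p : ℕ} [Fact p.Prime] {q : Pt} (h1 : Fi.weq K22 (wpow w p) [] = true)
    (h2 : wmv K22 w q = true) : orderOf (wv T.el w) = p :=
  orderOf_eq_prime (h.pow_eq_one h1) (h.ne_one h2)

theorem cj_eq {y x z : List ℕ} (h1 : Fi.weq K22 (y ++ x) (z ++ y) = true) :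
    cj (wv T.el y) (wv T.el x) = wv T.el z := by
  have := h.weq h1
  rwa [T.wv_append, T.wv_append, ← mul_inv_eq_iff_eq_mul] at this

theorem cj_eq_pow {y x : List ℕ} {r : ℕ} (h1 : Fi.weq K22 (y ++ x) (wpow x r ++ y) = true) :
    cj (wv T.el y) (wv T.el x) = wv T.el x ^ r := (h.cj_eq h1).trans (wv_wpow T x r)

theorem st_fx (w : List ℕ) :
    T.st (fx K22 12 w) = D ∩ (centralizer (zpowers (wv T.el w) : Set G) : Set G) := by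
  rw [cent_zpowers, ← h.dat, Fi.st_fx T h.hb]

theorem fixOK {gs : List (List ℕ)} {ps : List Pt} (h1 : K22.fixOK gs ps = true) :
    ∀ w ∈ gs, ∀ p ∈ ps, Commute (wv T.el w) (T.val p) := T.commute_of_fixOK (h.dat ▸ h1)

theorem closure_fx {w : List ℕ} {l : List Pt} {sc : List ℕ} (h1 : genOK K22 l sc (fx K22 12 w) = true) :
    closure (D ∩ (centralizer (zpowers (wv T.el w) : Set G) : Set G)) =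
      closure {x | x ∈ l.map T.val} := by
  rw [← h.st_fx, closure_st T (sc := sc) (by rw [h.dat]; exact h1)]

/-- the normaliser of a word whose fixed points generate a symmetric group -/
theorem nstr_perm {x y : List ℕ} {l : List Pt} {sc : List ℕ} {p k r : ℕ} (hp : p.Prime)
    (hx : orderOf (wv T.el x) = p) (hy : Fi.weq K22 (wpow y k) [] = true)
    (hr : Fi.weq K22 (y ++ x) (wpow x r ++ y) = true) (hk0 : 0 < k)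
    (hk : ∀ j < k, 0 < j → r ^ j % p ≠ 1) (h1 : genOK K22 l sc (fx K22 12 x) = true)
    (h2 : strOK K22 l = true) (h3 : 2 ≤ l.length) (h4 : K22.fixOK [y] l = true)
    (hN : p * k * (l.length + 1).factorial ∣ Nat.card (normalizer (zpowers (wv T.el x) : Set G)) →
      Nat.card (normalizer (zpowers (wv T.el x) : Set G)) ≤ p * k * (l.length + 1).factorial) :
    NStr (zpowers (wv T.el x))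
      (closure (D ∩ (centralizer (zpowers (wv T.el x) : Set G) : Set G)))
      (normalizer (zpowers (wv T.el x) : Set G)) (p * k) ∧
    Nonempty (closure (D ∩ (centralizer (zpowers (wv T.el x) : Set G) : Set G)) ≃*
      Equiv.Perm (Fin (l.length + 1))) := by
  have := h.finite
  have e1 := h.closure_fx h1
  obtain ⟨e⟩ := perm_of_str T (h.dat ▸ h2) h3
  rw [← e1] at e
  have hS : closure (D ∩ (centralizer (zpowers (wv T.el x) : Set G) : Set G)) ≤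
      centralizer (zpowers (wv T.el x) : Set G) := (closure_le _).2 Set.inter_subset_right
  refine ⟨nstr_of hx hp (h.pow_eq_one hy) (h.cj_eq_pow hr) hk0 hk
    (fun s hs => hS hs _ (mem_zpowers _)) (e1 ▸ commute_closure fun s hs => ?_)
    (fun z hz _ hc => central_of_equiv (by omega) e hz hc)
    (frob_card hx hp (h.pow_eq_one hy) (h.cj_eq_pow hr) hk0 hk).2.2
    (hS.trans (centralizer_le_normalizer _)) ?_, ⟨e⟩⟩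
  · obtain ⟨q, hq, rfl⟩ := List.mem_map.1 hs
    exact h.fixOK h4 _ List.mem_cons_self q hq
  · rwa [Nat.card_congr e.toEquiv, Nat.card_perm, Nat.card_fin]

end Is22

namespace P22

def x13 : List ℕ := [1, 2, 3, 4, 5, 6, 8, 9]
def x11 : List ℕ := [5, 4, 6, 8, 2, 9, 1, 3, 4, 8, 7, 5, 4, 6, 8, 2, 9, 1, 3, 4, 8, 7]
def d11 : Pt := ([9, 6, 5, 4, 8, 7, 5, 6, 3, 4, 5, 2, 3, 4, 8, 9, 6, 4, 5, 2, 3, 4, 8, 7, 6, 5, 4, 3, 2], 1)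
def y11 : List ℕ := [7, 6, 3, 4, 5, 2, 3, 4, 8, 9, 4, 5, 3, 4, 8, 7, 6, 5, 4, 3, 2, 1, 3, 6, 7, 6, 5, 8, 4, 3, 2, 5, 6, 9, 8, 4, 3, 5, 4, 8, 9, 8, 7, 6, 3, 4, 5, 2, 3, 4, 8, 3, 4, 5, 6, 3, 4, 2, 3]
def x7 : List ℕ := [1, 2, 3, 4, 8, 9]
def y7 : List ℕ := [9, 3, 4, 8, 3, 1, 2]

def c130A0 : ℕ := nat_lit 0xc600891a02001405041080060808000005910002ebb000b6a000408000b3840008c2281
theorem c130k0 : killM K22 [x13] [] ([7, 6, 5], 4) [([1], [([], 1), ([], 8), ([], 5), ([], 7), ([8], 4), ([5], 4), ([8, 5, 4], 3), ([4, 3, 2], 1), ([4, 8, 5, 4], 3), ([4, 8, 6, 5, 4], 3), ([9, 4, 8, 5, 4], 3), ([8, 7, 6, 5, 4], 3), ([4, 8, 6, 5, 4, 3], 2), ([9, 4, 8, 5, 4, 3], 2), ([8, 7, 6, 5, 4, 3], 2), ([4, 8, 7, 6, 5, 4], 3), ([4, 8, 7, 6, 5, 4, 3], 2), ([5, 4, 8, 7, 6, 5, 4], 3), ([9,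 4, 8, 7, 6, 5, 4], 3), ([5, 3, 4, 8, 6, 5, 4, 3], 2), ([3, 4, 8, 7, 6, 5, 4, 3], 2), ([8, 9, 3, 4, 8, 5, 4, 3], 2), ([5, 4, 8, 7, 6, 5, 4, 3], 2), ([9, 4, 8, 7, 6, 5, 4, 3], 2), ([6, 5, 4, 8, 7, 6, 5, 4], 3), ([9, 5, 4, 8, 7, 6, 5, 4], 3), ([8, 9, 4, 8, 7, 6, 5, 4], 3), ([4, 5, 3, 4, 8, 6, 5, 4, 3], 2), ([5, 3, 4, 8, 7, 6, 5, 4, 3], 2), ([9, 3, 4, 8, 7, 6, 5, 4, 3], 2), ([4, 8, 9, 3, 4, 8, 5, 4, 3], 2), ([6, 5, 4, 8, 7, 6, 5, 4, 3], 2), ([9, 5, 4, 8, 7, 6, 5, 4, 3], 2), ([8, 9, 4, 8, 7, 6, 5, 4, 3], 2), ([4, 5, 3, 4, 8, 7, 6, 5, 4, 3], 2), ([6, 5, 3, 4, 8, 7, 6, 5, 4, 3], 2), ([9, 5, 3, 4, 8, 7, 6, 5, 4, 3], 2), ([8, 9, 3, 4, 8, 7, 6, 5, 4, 3], 2), ([4, 8, 9, 5, 4, 8, 7, 6, 5, 4], 3), ([8, 9, 5, 3, 4, 8, 7, 6, 5, 4, 3], 2), ([4, 8, 9, 5, 4, 8, 7, 6, 5, 4, 3], 2),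 ([3, 4, 8, 9, 5, 4, 8, 6, 5, 4, 3], 2), ([8, 4, 5, 3, 4, 8, 7, 6, 5, 4, 3, 2], 1), ([8, 9, 5, 3, 4, 8, 7, 6, 5, 4, 3, 2], 1), ([4, 8, 9, 5, 4, 8, 7, 6, 5, 4, 3, 2], 1), ([8, 6, 4, 5, 3, 4, 8, 7, 6, 5, 4, 3], 2), ([9, 8, 4, 5, 3, 4, 8, 7, 6, 5, 4, 3], 2), ([5, 4, 8, 9, 3, 4, 8, 7, 6, 5, 4, 3], 2), ([7, 6, 5, 4, 8, 9, 3, 4, 8, 5, 4, 3], 2), ([8, 9, 5, 2, 3, 4, 8, 7, 6, 5, 4, 3, 2], 1), ([8, 6, 4, 5, 3, 4, 8, 7, 6, 5, 4, 3, 2], 1), ([9, 8, 4, 5, 3, 4, 8, 7, 6, 5, 4, 3, 2], 1), ([8, 9, 4, 5, 3, 4, 8, 7, 6, 5, 4, 3, 2], 1), ([4, 8, 9, 5, 3, 4, 8, 7, 6, 5, 4, 3, 2], 1), ([5, 4, 8, 9, 3, 4, 8, 7, 6, 5, 4, 3, 2], 1), ([3, 4, 8, 9, 5, 4, 8, 7, 6, 5, 4, 3, 2], 1), ([8, 9, 8, 4, 5, 3, 4, 8, 7, 6, 5, 4, 3], 2), ([4, 8, 9, 4, 5, 3, 4, 8, 7, 6, 5, 4, 3], 2), ([4, 8, 9, 6, 5,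 3, 4, 8, 7, 6, 5, 4, 3], 2), ([3, 4, 8, 9, 5, 3, 4, 8, 7, 6, 5, 4, 3], 2)])] = c130A0 := by decide +kernel
def c130A1 : ℕ := nat_lit 0x4a801000400020450008500b4004080480100014801ea004280e022208410083a3000418c01118010000000000000000000000000000000000000000000000000000000000000000000000000
theorem c130k1 : killM K22 [x13] [] ([7, 6, 5], 4) [([1], [([2, 3, 4, 8, 9, 5, 4, 8, 7, 6, 5, 4, 3], 2), ([9, 8, 4, 5, 2, 3, 4, 8, 7, 6, 5, 4, 3, 2], 1), ([8, 9, 4, 5, 2, 3, 4, 8, 7, 6, 5, 4, 3, 2], 1), ([4, 8, 9, 5, 2, 3, 4, 8, 7, 6, 5, 4, 3, 2], 1), ([5, 4, 8, 9, 2, 3, 4, 8, 7, 6, 5, 4, 3, 2], 1), ([8, 9, 8, 4, 5, 3, 4, 8, 7, 6, 5, 4, 3, 2], 1), ([4, 8, 9, 4, 5, 3, 4, 8, 7, 6, 5, 4, 3, 2], 1), ([4, 8, 9, 6, 5, 3, 4, 8, 7, 6, 5, 4, 3, 2], 1), ([3, 4, 8, 9, 5, 3, 4, 8, 7, 6, 5,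 4, 3, 2], 1), ([7, 6, 5, 4, 8, 9, 3, 4, 8, 6, 5, 4, 3, 2], 1), ([3, 4, 8, 9, 4, 5, 3, 4, 8, 7, 6, 5, 4, 3], 2), ([5, 4, 8, 9, 4, 5, 3, 4, 8, 7, 6, 5, 4, 3], 2), ([5, 3, 4, 8, 9, 4, 5, 3, 4, 8, 6, 5, 4, 3], 2), ([3, 4, 8, 9, 6, 5, 3, 4, 8, 7, 6, 5, 4, 3], 2), ([5, 4, 8, 9, 6, 5, 3, 4, 8, 7, 6, 5, 4, 3], 2), ([2, 3, 4, 8, 9, 5, 3, 4, 8, 7, 6, 5, 4, 3], 2), ([7, 6, 5, 4, 8, 9, 5, 3, 4, 8, 6, 5, 4, 3], 2), ([9, 8, 3, 4, 5, 2, 3, 4, 8, 7, 6, 5, 4, 3, 2], 1), ([8, 5, 6, 4, 5, 2, 3, 4, 8, 7, 6, 5, 4, 3, 2], 1), ([4, 8, 9, 4, 5, 2, 3, 4, 8, 7, 6, 5, 4, 3, 2], 1), ([5, 4, 8, 9, 5, 2, 3, 4, 8, 7, 6, 5, 4, 3, 2], 1), ([5, 3, 4, 8, 9, 2, 3, 4, 8, 7, 6, 5, 4, 3, 2], 1), ([7, 6, 5, 4, 8, 9, 2, 3, 4, 8, 6, 5, 4, 3, 2], 1), ([4, 8, 9, 6, 4, 5, 3, 4, 8, 7, 6, 5, 4, 3, 2], 1), ([4,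 8, 9, 8, 4, 5, 3, 4, 8, 7, 6, 5, 4, 3, 2], 1), ([3, 4, 8, 9, 4, 5, 3, 4, 8, 7, 6, 5, 4, 3, 2], 1), ([5, 4, 8, 9, 6, 5, 3, 4, 8, 7, 6, 5, 4, 3, 2], 1), ([5, 3, 4, 8, 9, 5, 3, 4, 8, 7, 6, 5, 4, 3, 2], 1), ([7, 6, 5, 4, 8, 9, 5, 3, 4, 8, 6, 5, 4, 3, 2], 1), ([4, 8, 9, 5, 6, 4, 5, 3, 4, 8, 7, 6, 5, 4, 3], 2), ([3, 4, 8, 9, 6, 4, 5, 3, 4, 8, 7, 6, 5, 4, 3], 2), ([3, 4, 8, 9, 8, 4, 5, 3, 4, 8, 7, 6, 5, 4, 3], 2), ([5, 4, 8, 9, 8, 4, 5, 3, 4, 8, 7, 6, 5, 4, 3], 2), ([2, 3, 4, 8, 9, 4, 5, 3, 4, 8, 7, 6, 5, 4, 3], 2), ([5, 3, 4, 8, 9, 4, 5, 3, 4, 8, 7, 6, 5, 4, 3], 2), ([5, 3, 4, 8, 9, 6, 5, 3, 4, 8, 7, 6, 5, 4, 3], 2), ([5, 2, 3, 4, 8, 9, 5, 3, 4, 8, 7, 6, 5, 4, 3], 2), ([7, 6, 5, 4, 8, 9, 5, 3, 4, 8, 7, 6, 5, 4, 3], 2), ([4, 8, 9, 3, 4, 5, 2, 3, 4, 8, 7, 6, 5, 4, 3, 2],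 1), ([4, 8, 9, 6, 4, 5, 2, 3, 4, 8, 7, 6, 5, 4, 3, 2], 1), ([5, 4, 8, 9, 4, 5, 2, 3, 4, 8, 7, 6, 5, 4, 3, 2], 1), ([5, 3, 4, 8, 9, 5, 2, 3, 4, 8, 7, 6, 5, 4, 3, 2], 1), ([4, 5, 3, 4, 8, 9, 2, 3, 4, 8, 7, 6, 5, 4, 3, 2], 1), ([3, 4, 8, 9, 6, 4, 5, 3, 4, 8, 7, 6, 5, 4, 3, 2], 1), ([3, 4, 8, 9, 8, 4, 5, 3, 4, 8, 7, 6, 5, 4, 3, 2], 1), ([5, 4, 8, 9, 8, 4, 5, 3, 4, 8, 7, 6, 5, 4, 3, 2], 1), ([5, 3, 4, 8, 9, 4, 5, 3, 4, 8, 7, 6, 5, 4, 3, 2], 1), ([7, 6, 5, 4, 8, 9, 4, 5, 3, 4, 8, 6, 5, 4, 3, 2], 1), ([5, 3, 4, 8, 9, 6, 5, 3, 4, 8, 7, 6, 5, 4, 3, 2], 1), ([7, 6, 5, 4, 8, 9, 5, 3, 4, 8, 7, 6, 5, 4, 3, 2], 1), ([4, 8, 9, 8, 5, 6, 4, 5, 3, 4, 8, 7, 6, 5, 4, 3], 2), ([5, 4, 8, 9, 5, 6, 4, 5, 3, 4, 8, 7, 6, 5, 4, 3], 2), ([5, 3, 4, 8, 9, 6, 4, 5, 3, 4, 8, 7, 6, 5, 4, 3], 2),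 ([4, 5, 3, 4, 8, 9, 4, 5, 3, 4, 8, 7, 6, 5, 4, 3], 2), ([7, 6, 5, 3, 4, 8, 9, 5, 3, 4, 8, 7, 6, 5, 4, 3], 2), ([4, 8, 9, 8, 3, 4, 5, 2, 3, 4, 8, 7, 6, 5, 4, 3, 2], 1), ([4, 8, 9, 5, 6, 4, 5, 2, 3, 4, 8, 7, 6, 5, 4, 3, 2], 1), ([3, 4, 8, 9, 6, 4, 5, 2, 3, 4, 8, 7, 6, 5, 4, 3, 2], 1), ([3, 4, 8, 9, 8, 4, 5, 2, 3, 4, 8, 7, 6, 5, 4, 3, 2], 1), ([5, 3, 4, 8, 9, 4, 5, 2, 3, 4, 8, 7, 6, 5, 4, 3, 2], 1)])] = c130A1 := by decide +kernel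
def c130A2 : ℕ := nat_lit 0x900000000031280010000000000000601590000000000000000000002c9000000000000000208050000000000000000801028c0000000000000000402000000200000200228a00009020020000002005400000000020002000a0000020a00008042080a000000000000000000000000000000000000000000000000000000000000000000000000000000000000000000000000000000000000000000000000000000000000000000000000000000000000
theorem c130k2 : killM K22 [x13] [] ([7, 6, 5], 4) [([1], [([4, 5, 3, 4, 8, 9, 5, 2, 3, 4, 8, 7, 6, 5, 4, 3, 2], 1), ([7, 6, 5, 4, 8, 9, 5, 2, 3, 4, 8, 7, 6, 5, 4, 3, 2], 1), ([8, 4, 5, 3, 4, 8, 9, 2, 3, 4, 8, 7, 6, 5, 4, 3, 2], 1), ([3, 4, 8, 9, 5, 6, 4, 5, 3, 4, 8, 7, 6, 5, 4, 3, 2], 1), ([5, 3, 4, 8, 9, 6, 4, 5, 3, 4, 8, 7, 6, 5, 4, 3, 2], 1), ([7, 6, 5, 4, 8, 9, 4, 5, 3, 4, 8, 7,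 6, 5, 4, 3, 2], 1), ([7, 6, 5, 3, 4, 8, 9, 5, 3, 4, 8, 7, 6, 5, 4, 3, 2], 1), ([7, 6, 5, 2, 3, 4, 8, 9, 5, 3, 4, 8, 6, 5, 4, 3, 2], 1), ([3, 4, 8, 9, 8, 5, 6, 4, 5, 3, 4, 8, 7, 6, 5, 4, 3], 2), ([4, 5, 2, 3, 4, 8, 9, 6, 5, 3, 4, 8, 7, 6, 5, 4, 3], 2), ([6, 4, 5, 3, 4, 8, 9, 6, 5, 3, 4, 8, 7, 6, 5, 4, 3], 2), ([4, 8, 9, 4, 8, 3, 4, 5, 2, 3, 4, 8, 7, 6, 5, 4, 3, 2], 1), ([3, 4, 8, 9, 5, 6, 4, 5, 2, 3, 4, 8, 7, 6, 5, 4, 3, 2], 1), ([7, 6, 5, 2, 3, 4, 8, 9, 5, 2, 3, 4, 8, 6, 5, 4, 3, 2], 1), ([5, 6, 4, 5, 3, 4, 8, 9, 2, 3, 4, 8, 7, 6, 5, 4, 3, 2], 1), ([8, 6, 4, 5, 3, 4, 8, 9, 2, 3, 4, 8, 7, 6, 5, 4, 3, 2], 1), ([5, 2, 3, 4, 8, 9, 6, 4, 5, 3, 4, 8, 7, 6, 5, 4, 3, 2], 1), ([7, 6, 5, 2, 3, 4, 8, 9, 5, 3, 4, 8, 7, 6, 5, 4, 3, 2], 1), ([7, 6, 5, 4, 8, 9, 5, 6, 4, 5, 3,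 4, 8, 7, 6, 5, 4, 3], 2), ([4, 5, 2, 3, 4, 8, 9, 6, 4, 5, 3, 4, 8, 7, 6, 5, 4, 3], 2), ([8, 4, 5, 3, 4, 8, 9, 6, 4, 5, 3, 4, 8, 7, 6, 5, 4, 3], 2), ([4, 8, 9, 4, 8, 6, 3, 4, 5, 2, 3, 4, 8, 7, 6, 5, 4, 3, 2], 1), ([5, 4, 8, 9, 8, 6, 3, 4, 5, 2, 3, 4, 8, 7, 6, 5, 4, 3, 2], 1), ([3, 4, 8, 9, 4, 8, 3, 4, 5, 2, 3, 4, 8, 7, 6, 5, 4, 3, 2], 1), ([5, 3, 4, 8, 9, 8, 3, 4, 5, 2, 3, 4, 8, 7, 6, 5, 4, 3, 2], 1), ([4, 5, 3, 4, 8, 9, 3, 4, 5, 2, 3, 4, 8, 7, 6, 5, 4, 3, 2], 1), ([9, 8, 4, 5, 3, 4, 8, 9, 5, 2, 3, 4, 8, 7, 6, 5, 4, 3, 2], 1), ([8, 4, 5, 3, 4, 8, 9, 4, 5, 2, 3, 4, 8, 7, 6, 5, 4, 3, 2], 1), ([8, 6, 4, 5, 3, 4, 8, 9, 5, 2, 3, 4, 8, 7, 6, 5, 4, 3, 2], 1), ([5, 3, 4, 8, 9, 8, 5, 6, 4, 5, 3, 4, 8, 7, 6, 5, 4, 3, 2], 1), ([3, 4, 8, 9, 4, 5, 6, 3, 4, 5, 2, 3, 4, 8, 7,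 6, 5, 4, 3, 2], 1), ([5, 4, 8, 9, 4, 5, 6, 3, 4, 5, 2, 3, 4, 8, 7, 6, 5, 4, 3, 2], 1), ([5, 3, 4, 8, 9, 5, 6, 3, 4, 5, 2, 3, 4, 8, 7, 6, 5, 4, 3, 2], 1), ([3, 4, 8, 9, 4, 8, 6, 3, 4, 5, 2, 3, 4, 8, 7, 6, 5, 4, 3, 2], 1), ([4, 5, 3, 4, 8, 9, 6, 3, 4, 5, 2, 3, 4, 8, 7, 6, 5, 4, 3, 2], 1), ([6, 4, 5, 3, 4, 8, 9, 3, 4, 5, 2, 3, 4, 8, 7, 6, 5, 4, 3, 2], 1), ([8, 4, 5, 2, 3, 4, 8, 9, 6, 5, 2, 3, 4, 8, 7, 6, 5, 4, 3, 2], 1), ([5, 6, 4, 5, 3, 4, 8, 9, 6, 5, 2, 3, 4, 8, 7, 6, 5, 4, 3, 2], 1), ([8, 6, 4, 5, 2, 3, 4, 8, 9, 5, 2, 3, 4, 8, 7, 6, 5, 4, 3, 2], 1), ([5, 2, 3, 4, 8, 9, 8, 5, 6, 4, 5, 3, 4, 8, 7, 6, 5, 4, 3, 2], 1), ([5, 3, 4, 8, 9, 4, 5, 6, 3, 4, 5, 2, 3, 4, 8, 7, 6, 5, 4, 3, 2], 1), ([5, 3, 4, 8, 9, 8, 5, 6, 3, 4, 5, 2, 3, 4, 8, 7, 6, 5, 4, 3, 2], 1), ([5, 2,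 3, 4, 8, 9, 5, 6, 3, 4, 5, 2, 3, 4, 8, 7, 6, 5, 4, 3, 2], 1), ([4, 5, 3, 4, 8, 9, 5, 6, 3, 4, 5, 2, 3, 4, 8, 7, 6, 5, 4, 3, 2], 1), ([7, 6, 5, 4, 8, 9, 5, 6, 3, 4, 5, 2, 3, 4, 8, 7, 6, 5, 4, 3, 2], 1), ([8, 4, 5, 1, 2, 3, 4, 8, 9, 6, 5, 2, 3, 4, 8, 7, 6, 5, 4, 3, 2], 1), ([8, 3, 4, 5, 2, 3, 4, 8, 9, 6, 5, 2, 3, 4, 8, 7, 6, 5, 4, 3, 2], 1), ([5, 6, 4, 5, 2, 3, 4, 8, 9, 6, 5, 2, 3, 4, 8, 7, 6, 5, 4, 3, 2], 1), ([8, 6, 4, 5, 2, 3, 4, 8, 9, 6, 5, 2, 3, 4, 8, 7, 6, 5, 4, 3, 2], 1), ([7, 5, 6, 4, 5, 3, 4, 8, 9, 6, 5, 2, 3, 4, 8, 7, 6, 5, 4, 3, 2], 1), ([4, 8, 5, 6, 4, 5, 3, 4, 8, 9, 5, 2, 3, 4, 8, 7, 6, 5, 4, 3, 2], 1), ([3, 4, 8, 5, 6, 4, 5, 3, 4, 8, 9, 2, 3, 4, 8, 7, 6, 5, 4, 3, 2], 1), ([5, 2, 3, 4, 8, 9, 4, 5, 6, 3, 4, 5, 2, 3, 4, 8, 7, 6, 5, 4, 3, 2], 1), ([4, 5,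 3, 4, 8, 9, 4, 8, 6, 3, 4, 5, 2, 3, 4, 8, 7, 6, 5, 4, 3, 2], 1), ([4, 5, 2, 3, 4, 8, 9, 8, 6, 3, 4, 5, 2, 3, 4, 8, 7, 6, 5, 4, 3, 2], 1), ([8, 4, 5, 3, 4, 8, 9, 8, 6, 3, 4, 5, 2, 3, 4, 8, 7, 6, 5, 4, 3, 2], 1), ([6, 4, 5, 2, 3, 4, 8, 9, 6, 3, 4, 5, 2, 3, 4, 8, 7, 6, 5, 4, 3, 2], 1), ([8, 4, 5, 2, 3, 4, 8, 9, 6, 3, 4, 5, 2, 3, 4, 8, 7, 6, 5, 4, 3, 2], 1), ([5, 6, 4, 5, 3, 4, 8, 9, 5, 6, 4, 5, 2, 3, 4, 8, 7, 6, 5, 4, 3, 2], 1), ([9, 8, 4, 5, 3, 4, 8, 9, 5, 6, 4, 5, 2, 3, 4, 8, 7, 6, 5, 4, 3, 2], 1)])] = c130A2 := by decide +kernel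
def c130A3 : ℕ := nat_lit 0x100000000000000000000000000000000000000000000000000000000000000400000000100000002002400000000000000000000004000000000000000000200000000000000000028000000000000000200008000010800004000000000000000001280000010022000000001490a0f00000000000002400000110100000000000000000000000000000000000000000000000000000000000000000000000000000000000000000000000000000000000000000000000000000000000000000000000000000000000000000000000000000000000001000000000000005000000000000000000000000000000010000000000200000000020004101000000000000000000002000000000000200000004228a000000020400000102000000000000000000002000000000004002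
theorem c130k3 : killM K22 [x13] [] ([7, 6, 5], 4) [([1], [([8, 6, 4, 5, 3, 4, 8, 9, 8, 6, 4, 5, 2, 3, 4, 8, 7, 6, 5, 4, 3, 2], 1), ([5, 6, 4, 5, 2, 3, 4, 8, 9, 6, 4, 5, 2, 3, 4, 8, 7, 6, 5, 4, 3, 2], 1), ([7, 5, 6, 4, 5, 3, 4, 8, 9, 6, 4, 5, 2, 3, 4, 8, 7, 6, 5, 4, 3, 2], 1), ([8, 6, 3, 4, 5, 2, 3, 4, 8, 9, 6, 5, 2, 3, 4, 8, 7, 6, 5, 4, 3, 2], 1), ([7, 5, 6, 4, 5, 2, 3, 4, 8, 9, 6, 5, 2, 3, 4, 8, 7, 6, 5, 4, 3, 2], 1), ([6, 4, 5, 3, 4, 8, 9, 4, 5, 6, 3, 4, 5, 2, 3, 4, 8, 7, 6, 5, 4, 3, 2], 1), ([8, 4, 5, 3, 4, 8, 9, 4, 5, 6, 3, 4, 5, 2, 3, 4, 8, 7, 6, 5, 4, 3, 2], 1), ([7, 6, 5, 3, 4, 8, 9, 4, 5, 6, 3, 4, 5, 2, 3, 4, 8, 7, 6, 5, 4, 3, 2], 1), ([4, 5, 2, 3, 4, 8, 9, 8, 5, 6, 3, 4, 5, 2, 3, 4, 8, 7, 6, 5, 4, 3, 2], 1), ([3, 4, 5, 2, 3, 4, 8, 9, 5, 6, 3, 4, 5, 2,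 3, 4, 8, 7, 6, 5, 4, 3, 2], 1), ([8, 4, 5, 2, 3, 4, 8, 9, 5, 6, 3, 4, 5, 2, 3, 4, 8, 7, 6, 5, 4, 3, 2], 1), ([9, 8, 4, 5, 3, 4, 8, 9, 5, 6, 3, 4, 5, 2, 3, 4, 8, 7, 6, 5, 4, 3, 2], 1), ([8, 4, 5, 3, 4, 8, 9, 4, 8, 6, 3, 4, 5, 2, 3, 4, 8, 7, 6, 5, 4, 3, 2], 1), ([3, 4, 5, 2, 3, 4, 8, 9, 8, 6, 3, 4, 5, 2, 3, 4, 8, 7, 6, 5, 4, 3, 2], 1), ([8, 4, 5, 2, 3, 4, 8, 9, 8, 6, 3, 4, 5, 2, 3, 4, 8, 7, 6, 5, 4, 3, 2], 1), ([8, 4, 5, 2, 3, 4, 8, 9, 8, 5, 6, 4, 5, 2, 3, 4, 8, 7, 6, 5, 4, 3, 2], 1), ([8, 6, 4, 5, 3, 4, 8, 9, 8, 5, 6, 4, 5, 2, 3, 4, 8, 7, 6, 5, 4, 3, 2], 1), ([9, 8, 4, 5, 2, 3, 4, 8, 9, 5, 6, 4, 5, 2, 3, 4, 8, 7, 6, 5, 4, 3, 2], 1), ([8, 6, 3, 4, 5, 2, 3, 4, 8, 9, 6, 4, 5, 2, 3, 4, 8, 7, 6, 5, 4, 3, 2], 1), ([9, 8, 3, 4, 5, 2, 3, 4, 8, 9, 6, 4, 5, 2, 3, 4, 8, 7,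 6, 5, 4, 3, 2], 1), ([8, 7, 6, 4, 5, 2, 3, 4, 8, 9, 6, 4, 5, 2, 3, 4, 8, 7, 6, 5, 4, 3, 2], 1), ([7, 6, 5, 2, 3, 4, 8, 9, 4, 5, 6, 3, 4, 5, 2, 3, 4, 8, 7, 6, 5, 4, 3, 2], 1), ([7, 5, 6, 4, 5, 3, 4, 8, 9, 5, 6, 3, 4, 5, 2, 3, 4, 8, 7, 6, 5, 4, 3, 2], 1), ([3, 4, 5, 2, 3, 4, 8, 9, 4, 8, 6, 3, 4, 5, 2, 3, 4, 8, 7, 6, 5, 4, 3, 2], 1), ([4, 8, 3, 4, 5, 2, 3, 4, 8, 9, 6, 3, 4, 5, 2, 3, 4, 8, 7, 6, 5, 4, 3, 2], 1), ([4, 8, 5, 6, 4, 5, 2, 3, 4, 8, 9, 3, 4, 5, 2, 3, 4, 8, 7, 6, 5, 4, 3, 2], 1), ([4, 5, 6, 3, 4, 5, 2, 3, 4, 8, 9, 6, 4, 5, 2, 3, 4, 8, 7, 6, 5, 4, 3, 2], 1), ([8, 5, 6, 3, 4, 5, 2, 3, 4, 8, 9, 6, 4, 5, 2, 3, 4, 8, 7, 6, 5, 4, 3, 2], 1), ([8, 3, 4, 5, 2, 3, 4, 8, 9, 8, 5, 6, 3, 4, 5, 2, 3, 4, 8, 7, 6, 5, 4, 3, 2], 1), ([3, 4, 8, 5, 6, 4, 5, 2, 3, 4, 8, 9, 3,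 4, 5, 2, 3, 4, 8, 7, 6, 5, 4, 3, 2], 1), ([3, 4, 8, 5, 6, 4, 5, 1, 2, 3, 4, 8, 9, 4, 5, 2, 3, 4, 8, 7, 6, 5, 4, 3, 2], 1), ([3, 4, 8, 5, 6, 3, 4, 5, 2, 3, 4, 8, 9, 4, 5, 2, 3, 4, 8, 7, 6, 5, 4, 3, 2], 1), ([3, 4, 8, 5, 6, 3, 4, 5, 2, 3, 4, 8, 9, 6, 5, 2, 3, 4, 8, 7, 6, 5, 4, 3, 2], 1), ([8, 6, 3, 4, 5, 2, 3, 4, 8, 9, 4, 5, 6, 3, 4, 5, 2, 3, 4, 8, 7, 6, 5, 4, 3, 2], 1), ([8, 7, 5, 6, 4, 5, 2, 3, 4, 8, 9, 5, 6, 3, 4, 5, 2, 3, 4, 8, 7, 6, 5, 4, 3, 2], 1), ([8, 9, 4, 8, 3, 4, 5, 2, 3, 4, 8, 9, 5, 6, 3, 4, 5, 2, 3, 4, 8, 7, 6, 5, 4, 3, 2], 1)]), ([1, 1], [([2], 1), ([3, 2], 1), ([7, 6, 5, 4], 3), ([8, 4, 5, 3, 4, 8, 6, 5, 4, 3], 2), ([5, 4, 8, 9, 3, 4, 8, 5, 4, 3], 2), ([8, 4, 5, 3, 4, 8, 7, 6, 5, 4, 3], 2), ([4, 8, 9, 3, 4, 8, 7, 6, 5, 4, 3], 2), ([3, 4, 8, 9, 5, 4,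 8, 7, 6, 5, 4], 3), ([5, 6, 4, 5, 3, 4, 8, 7, 6, 5, 4, 3], 2), ([8, 9, 4, 5, 3, 4, 8, 7, 6, 5, 4, 3], 2), ([4, 8, 9, 4, 5, 3, 4, 8, 6, 5, 4, 3], 2), ([5, 4, 8, 9, 5, 3, 4, 8, 6, 5, 4, 3], 2), ([3, 4, 8, 9, 5, 4, 8, 7, 6, 5, 4, 3], 2), ([7, 6, 5, 4, 8, 9, 3, 4, 8, 5, 4, 3, 2], 1), ([7, 6, 5, 4, 8, 9, 2, 3, 4, 8, 5, 4, 3, 2], 1), ([4, 5, 3, 4, 8, 9, 6, 5, 4, 8, 7, 6, 5, 4], 3), ([7, 6, 5, 3, 4, 8, 9, 2, 3, 4, 8, 5, 4, 3, 2], 1), ([5, 4, 8, 9, 4, 5, 3, 4, 8, 7, 6, 5, 4, 3, 2], 1), ([3, 4, 8, 9, 6, 5, 3, 4, 8, 7, 6, 5, 4, 3, 2], 1), ([5, 4, 8, 3, 4, 5, 2, 3, 4, 8, 7, 6, 5, 4, 3, 2], 1), ([4, 8, 9, 5, 6, 4, 5, 3, 4, 8, 7, 6, 5, 4, 3, 2], 1), ([4, 8, 9, 8, 5, 6, 4, 5, 3, 4, 8, 7, 6, 5, 4, 3, 2], 1), ([5, 4, 8, 9, 5, 6, 4, 5, 3, 4, 8, 7, 6, 5, 4, 3, 2], 1), ([4, 5, 2,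 3, 4, 8, 9, 4, 5, 3, 4, 8, 7, 6, 5, 4, 3], 2)])] = c130A3 := by decide +kernel
def c130A4 : ℕ := nat_lit 0x2000000000000400000000000000000000000000000020000001000000000000004000020000000000000000000000040400000000000000400000000000000000000000080000000000000000002000000000000000000100000000000000000000008002000020000000000020000030000000000000800000200000000000000100000000000000000000000010000000000020000000000000000000000000000000000040000000000000000000000000000000020000000000000000000000000000000000000000000000000000000004000000000000000000000000000000000000004000030000000000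
theorem c130k4 : killM K22 [x13] [] ([7, 6, 5], 4) [([1, 1], [([8, 4, 5, 3, 4, 8, 9, 5, 2, 3, 4, 8, 7, 6, 5, 4, 3, 2], 1), ([4, 5, 2, 3, 4, 8, 9, 6, 4, 5, 3, 4, 8, 7, 6, 5, 4, 3, 2], 1), ([7, 6, 4, 5, 2, 3, 4, 8, 9, 6, 5, 3, 4, 8, 7, 6, 5, 4, 3], 2), ([8, 7, 6, 4, 5, 3, 4, 8, 9, 6, 5, 3, 4, 8, 7, 6, 5, 4, 3], 2), ([4, 5, 2, 3, 4, 8, 9, 3, 4, 5, 2, 3, 4, 8, 7, 6, 5, 4, 3, 2], 1), ([7, 6, 5, 2, 3, 4, 8, 9, 6, 5, 2, 3, 4, 8, 7, 6, 5, 4, 3, 2], 1), ([4, 8, 5, 6, 4, 5, 3, 4, 8, 9, 2, 3, 4, 8, 7, 6, 5, 4, 3, 2], 1), ([7, 6, 4, 5, 2, 3, 4, 8, 9, 6, 5, 2, 3, 4, 8, 7, 6, 5, 4, 3, 2], 1), ([8, 4, 5, 3, 4, 8, 9, 5, 6, 3, 4, 5, 2, 3, 4, 8, 7, 6, 5, 4, 3, 2], 1), ([4, 5, 2, 3, 4, 8, 9, 4, 5, 6, 3, 4, 5, 2, 3, 4, 8, 7, 6, 5, 4, 3, 2], 1), ([8, 4, 5, 3, 4, 8, 9, 8, 5, 6, 3, 4,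 5, 2, 3, 4, 8, 7, 6, 5, 4, 3, 2], 1), ([5, 6, 3, 4, 5, 2, 3, 4, 8, 9, 6, 4, 5, 2, 3, 4, 8, 7, 6, 5, 4, 3, 2], 1), ([4, 8, 5, 6, 4, 5, 2, 3, 4, 8, 9, 4, 5, 2, 3, 4, 8, 7, 6, 5, 4, 3, 2], 1), ([6, 4, 5, 2, 3, 4, 8, 9, 4, 5, 6, 3, 4, 5, 2, 3, 4, 8, 7, 6, 5, 4, 3, 2], 1), ([8, 4, 5, 2, 3, 4, 8, 9, 4, 8, 6, 3, 4, 5, 2, 3, 4, 8, 7, 6, 5, 4, 3, 2], 1), ([7, 6, 4, 5, 2, 3, 4, 8, 9, 4, 5, 6, 3, 4, 5, 2, 3, 4, 8, 7, 6, 5, 4, 3, 2], 1)]), ([1, 1, 1], [([9], 8), ([6], 5), ([2, 3, 4, 8, 9, 5, 4, 8, 6, 5, 4], 3), ([7, 6, 5, 4, 8, 9, 4, 5, 3, 4, 8, 6, 5, 4, 3], 2), ([4, 5, 2, 3, 4, 8, 9, 6, 5, 4, 8, 7, 6, 5, 4, 3], 2), ([5, 3, 4, 8, 9, 3, 4, 5, 2, 3, 4, 8, 7, 6, 5, 4, 3, 2], 1), ([5, 2, 3, 4, 8, 9, 3, 4, 5, 2, 3, 4, 8, 7, 6, 5, 4, 3, 2], 1), ([8, 4, 5, 2, 3, 4, 8, 9, 5, 2, 3,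 4, 8, 7, 6, 5, 4, 3, 2], 1), ([8, 4, 5, 2, 3, 4, 8, 9, 4, 5, 2, 3, 4, 8, 7, 6, 5, 4, 3, 2], 1), ([4, 5, 2, 3, 4, 8, 9, 8, 3, 4, 5, 2, 3, 4, 8, 7, 6, 5, 4, 3, 2], 1), ([3, 4, 8, 5, 6, 4, 5, 2, 3, 4, 8, 9, 4, 5, 2, 3, 4, 8, 7, 6, 5, 4, 3, 2], 1)]), ([1, 1, 1, 1, 0, 1, 0, 1, 1, 1, 1, 1], [([8, 7, 6, 5], 4)]), ([1, 1, 1, 1, 0, 1, 0, 1, 1, 1, 1], [([8, 6, 4, 5, 1, 2, 3, 4, 8, 9, 6, 5, 2, 3, 4, 8, 7, 6, 5, 4, 3, 2], 1)])] = c130A4 := by decide +kernel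
theorem c130L : levOK K22 12 [x13] [] ([7, 6, 5], 4) [] [] (Nat.lor (Nat.lor (Nat.lor (Nat.lor c130A0 c130A1) c130A2) c130A3) c130A4) [x13] [0, 0, 0, 0, 0, 0, 0, 0, 0, 0, 0, 0] 13 = true := by decide +kernel
theorem c13E : endOK K22 [x13] [([7, 6, 5], 4)] [0, 0, 0, 0, 1, 0, 1, 0, 1, 0, 1, 0, 1, 0, 1, 0, 0, 1, 0, 0, 1, 0, 0, 1, 0, 0, 1, 0, 0, 1, 0] = true := by decide +kernel
theorem c13_le (h : Is22 T) : Nat.card (CC T [x13] []) ≤ 13 :=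
  (lev22 h c130L (Dead.lor (Dead.lor (Dead.lor (Dead.lor (dead_of h (by decide) (by decide) (by decide) c130k0) (dead_of h (by decide) (by decide) (by decide) c130k1)) (dead_of h (by decide) (by decide) (by decide) c130k2)) (dead_of h (by decide) (by decide) (by decide) c130k3)) (dead_of h (by decide) (by decide) (by decide) c130k4))
    (end22 h c13E) :
    _ ≤ 13 * 1)

theorem c110L : levOK K22 12 [x11] [] d11 [[0]] [] 0 [] [] 1 = true := by decide +kernel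
def c111A0 : ℕ := nat_lit 0x1000000000000000000000000000000000000000000000000000000000000000000000000000000000000000000000000000000000000000000000000000000000000000000000200000000000000000000000000000000000000000000000000000002000001080400000000000000000000000020000000000010140801090004800fa11d800100a0809209905981c05200826175
theorem c111k0 : killM K22 [x11] [d11] ([8], 4) [([1, 1], [([], 1), ([], 6), ([6, 5, 4, 8, 9, 3, 4, 8, 5, 4, 3, 2], 1), ([8, 9, 8, 3, 4, 5, 2, 3, 4, 8, 6, 5, 4, 3, 2], 1), ([4, 8, 5, 6, 4, 5, 3, 4, 8, 7, 6, 5, 4, 3, 2], 1), ([6, 5, 3, 4, 8, 9, 5, 6, 3, 4, 5, 2, 3, 4, 8, 7, 6, 5, 4, 3, 2], 1)]), ([1, 1, 1, 1], [([], 2), ([], 3), ([6], 5), ([8, 5], 4), ([6, 5, 4], 3), ([3, 4, 8, 5, 4, 3], 2), ([4, 8, 6, 5, 4, 3], 2), ([9, 2, 3, 4, 8, 6, 5, 4,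 3, 2], 1), ([9, 2, 3, 4, 8, 7, 6, 5, 4, 3, 2], 1), ([9, 4, 5, 3, 4, 8, 7, 6, 5, 4, 3], 2), ([3, 4, 8, 9, 5, 3, 4, 8, 6, 5, 4, 3, 2], 1), ([6, 5, 3, 4, 8, 9, 5, 3, 4, 8, 6, 5, 4, 3], 2), ([4, 8, 3, 4, 5, 2, 3, 4, 8, 7, 6, 5, 4, 3, 2], 1), ([4, 5, 3, 4, 8, 9, 5, 2, 3, 4, 8, 7, 6, 5, 4, 3, 2], 1)]), ([1], [([], 4), ([], 5), ([4], 3), ([3, 2], 1), ([8, 4], 3), ([4, 3, 2], 1), ([4, 8, 5, 4], 3), ([9, 8, 6, 5, 4], 3), ([8, 6, 5, 4, 3, 2], 1), ([7, 6, 5, 4, 3, 2], 1), ([9, 4, 8, 6, 5, 4], 3), ([4, 8, 6, 5, 4, 3, 2], 1), ([9, 4, 8, 5, 4, 3, 2], 1), ([9, 8, 6, 5, 4, 3, 2], 1), ([3, 4, 8, 6, 5, 4, 3], 2), ([9, 3, 4, 8, 5, 4, 3], 2), ([9, 4, 8, 6, 5, 4, 3], 2), ([9, 3, 4, 8, 5, 4, 3, 2], 1), ([9, 4, 8, 6, 5, 4, 3, 2], 1), ([9, 3, 4, 8, 6, 5, 4, 3], 2), ([6, 5, 4, 8, 7, 6,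 5, 4], 3), ([2, 3, 4, 8, 6, 5, 4, 3, 2], 1), ([5, 3, 4, 8, 6, 5, 4, 3, 2], 1), ([9, 6, 5, 4, 8, 7, 6, 5, 4], 3), ([4, 8, 9, 5, 4, 8, 6, 5, 4], 3), ([2, 3, 4, 8, 7, 6, 5, 4, 3, 2], 1), ([4, 5, 3, 4, 8, 6, 5, 4, 3, 2], 1), ([5, 3, 4, 8, 7, 6, 5, 4, 3, 2], 1), ([9, 5, 3, 4, 8, 6, 5, 4, 3, 2], 1), ([6, 5, 4, 8, 7, 6, 5, 4, 3, 2], 1), ([4, 5, 3, 4, 8, 7, 6, 5, 4, 3], 2), ([8, 4, 5, 3, 4, 8, 6, 5, 4, 3], 2), ([9, 4, 5, 3, 4, 8, 6, 5, 4, 3], 2), ([6, 5, 3, 4, 8, 7, 6, 5, 4, 3], 2), ([3, 4, 8, 9, 5, 4, 8, 6, 5, 4], 3), ([4, 5, 3, 4, 8, 7, 6, 5, 4, 3, 2], 1), ([4, 8, 9, 5, 3, 4, 8, 6, 5, 4, 3], 2), ([6, 5, 2, 3, 4, 8, 7, 6, 5, 4, 3, 2], 1), ([6, 4, 5, 3, 4, 8, 7, 6, 5, 4, 3, 2], 1), ([9, 4, 5, 3, 4, 8, 7, 6, 5, 4, 3, 2], 1)])] = c111A0 := by decide +kernel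
def c111A1 : ℕ := nat_lit 0xa000000000000080000000000000000000000000000000000000800000000000000000000002000000000040000000000000000000400000000000000000000020400001000000000800000000000000000040100000000000000000000000000024002000000000000400000200044000040000000004000860227610800100000105820004c140010100240080800000010680460022000000000000000000000000000000000000000000000000000
theorem c111k1 : killM K22 [x11] [d11] ([8], 4) [([1], [([9, 8, 4, 5, 3, 4, 8, 6, 5, 4, 3, 2], 1), ([4, 8, 9, 5, 3, 4, 8, 6, 5, 4, 3, 2], 1), ([9, 6, 4, 5, 3, 4, 8, 7, 6, 5, 4, 3], 2), ([9, 8, 4, 5, 3, 4, 8, 7, 6, 5, 4, 3], 2), ([8, 9, 6, 5, 3, 4, 8, 7, 6, 5, 4, 3], 2), ([2, 3, 4, 8, 9, 5, 4, 8, 6, 5, 4, 3], 2), ([8, 3, 4, 5, 2, 3, 4, 8, 6, 5, 4, 3, 2], 1), ([9, 3, 4, 5, 2, 3, 4, 8, 6,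 5, 4, 3, 2], 1), ([9, 6, 5, 2, 3, 4, 8, 7, 6, 5, 4, 3, 2], 1), ([9, 8, 6, 4, 5, 3, 4, 8, 7, 6, 5, 4, 3], 2), ([3, 4, 8, 9, 5, 3, 4, 8, 7, 6, 5, 4, 3], 2), ([2, 3, 4, 8, 9, 6, 5, 4, 8, 7, 6, 5, 4], 3), ([6, 3, 4, 5, 2, 3, 4, 8, 7, 6, 5, 4, 3, 2], 1), ([4, 8, 3, 4, 5, 2, 3, 4, 8, 6, 5, 4, 3, 2], 1), ([4, 8, 9, 5, 2, 3, 4, 8, 7, 6, 5, 4, 3, 2], 1), ([6, 5, 3, 4, 8, 9, 2, 3, 4, 8, 5, 4, 3, 2], 1), ([2, 3, 4, 8, 9, 5, 3, 4, 8, 6, 5, 4, 3, 2], 1), ([6, 5, 4, 8, 9, 5, 3, 4, 8, 6, 5, 4, 3, 2], 1), ([1, 2, 3, 4, 8, 9, 5, 4, 8, 6, 5, 4, 3, 2], 1), ([4, 8, 5, 6, 4, 5, 3, 4, 8, 7, 6, 5, 4, 3], 2), ([2, 3, 4, 8, 9, 5, 3, 4, 8, 7, 6, 5, 4, 3], 2), ([7, 6, 5, 4, 8, 9, 5, 3, 4, 8, 6, 5, 4, 3], 2), ([7, 6, 5, 4, 8, 9, 3, 4, 8, 7, 6, 5, 4, 3], 2), ([5, 3, 4, 8, 9, 6, 5, 4, 8, 7,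 6, 5, 4, 3], 2), ([4, 5, 3, 4, 8, 9, 6, 5, 4, 8, 7, 6, 5, 4], 3), ([9, 8, 3, 4, 5, 2, 3, 4, 8, 7, 6, 5, 4, 3, 2], 1), ([6, 5, 3, 4, 8, 9, 2, 3, 4, 8, 6, 5, 4, 3, 2], 1), ([2, 3, 4, 8, 9, 4, 5, 3, 4, 8, 6, 5, 4, 3, 2], 1), ([2, 3, 4, 8, 9, 5, 3, 4, 8, 7, 6, 5, 4, 3, 2], 1), ([6, 5, 3, 4, 8, 9, 5, 3, 4, 8, 6, 5, 4, 3, 2], 1), ([7, 6, 5, 4, 8, 9, 5, 3, 4, 8, 6, 5, 4, 3, 2], 1), ([2, 3, 4, 8, 9, 6, 5, 4, 8, 7, 6, 5, 4, 3, 2], 1), ([5, 3, 4, 8, 9, 6, 5, 4, 8, 7, 6, 5, 4, 3, 2], 1), ([1, 2, 3, 4, 8, 9, 5, 4, 8, 7, 6, 5, 4, 3, 2], 1), ([4, 8, 9, 5, 6, 4, 5, 3, 4, 8, 7, 6, 5, 4, 3], 2), ([6, 5, 4, 8, 9, 4, 5, 3, 4, 8, 7, 6, 5, 4, 3], 2), ([2, 3, 4, 8, 9, 8, 4, 5, 3, 4, 8, 6, 5, 4, 3], 2), ([4, 5, 3, 4, 8, 9, 4, 5, 3, 4, 8, 6, 5, 4, 3], 2), ([4, 5, 3, 4, 8, 9, 6, 5, 4,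 8, 7, 6, 5, 4, 3], 2), ([4, 5, 3, 4, 8, 9, 2, 3, 4, 8, 7, 6, 5, 4, 3, 2], 1), ([5, 3, 4, 8, 9, 8, 4, 5, 3, 4, 8, 6, 5, 4, 3, 2], 1), ([4, 5, 3, 4, 8, 9, 4, 5, 3, 4, 8, 6, 5, 4, 3, 2], 1), ([4, 5, 3, 4, 8, 9, 6, 5, 4, 8, 7, 6, 5, 4, 3, 2], 1), ([4, 5, 3, 4, 8, 9, 8, 4, 5, 3, 4, 8, 6, 5, 4, 3], 2), ([4, 5, 3, 4, 8, 9, 4, 5, 2, 3, 4, 8, 6, 5, 4, 3, 2], 1), ([6, 5, 2, 3, 4, 8, 9, 5, 2, 3, 4, 8, 6, 5, 4, 3, 2], 1), ([7, 6, 5, 3, 4, 8, 9, 5, 2, 3, 4, 8, 6, 5, 4, 3, 2], 1), ([2, 3, 4, 8, 9, 8, 4, 5, 2, 3, 4, 8, 7, 6, 5, 4, 3, 2], 1), ([4, 5, 3, 4, 8, 9, 8, 4, 5, 2, 3, 4, 8, 6, 5, 4, 3, 2], 1), ([4, 5, 3, 4, 8, 9, 5, 6, 4, 5, 3, 4, 8, 7, 6, 5, 4, 3], 2), ([2, 3, 4, 8, 9, 8, 3, 4, 5, 2, 3, 4, 8, 7, 6, 5, 4, 3, 2], 1), ([5, 3, 4, 8, 9, 5, 6, 4, 5, 2, 3, 4, 8, 7, 6, 5, 4,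 3, 2], 1), ([4, 5, 3, 4, 8, 9, 6, 4, 5, 2, 3, 4, 8, 7, 6, 5, 4, 3, 2], 1), ([3, 4, 5, 1, 2, 3, 4, 8, 9, 6, 5, 4, 8, 7, 6, 5, 4, 3, 2], 1), ([4, 5, 3, 4, 8, 9, 8, 6, 4, 5, 2, 3, 4, 8, 7, 6, 5, 4, 3, 2], 1), ([9, 8, 4, 5, 3, 4, 8, 9, 6, 5, 2, 3, 4, 8, 7, 6, 5, 4, 3, 2], 1), ([6, 4, 5, 3, 4, 8, 9, 6, 3, 4, 5, 2, 3, 4, 8, 7, 6, 5, 4, 3, 2], 1), ([7, 6, 5, 4, 8, 9, 4, 5, 6, 3, 4, 5, 2, 3, 4, 8, 7, 6, 5, 4, 3, 2], 1), ([7, 6, 5, 3, 4, 8, 9, 8, 5, 6, 4, 5, 2, 3, 4, 8, 7, 6, 5, 4, 3, 2], 1), ([6, 5, 1, 2, 3, 4, 8, 9, 5, 6, 4, 5, 2, 3, 4, 8, 7, 6, 5, 4, 3, 2], 1)])] = c111A1 := by decide +kernel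
def c111A2 : ℕ := nat_lit 0x40000000000000000000000000000000000000000000000000000000000000000000000000000000000000000000000000000000000000010000000020000000000000000008200000000000000000000000000000000000000000000000000000000000000000000000000000000000000000000000000000000000000000000000000000000000000000000000000000000000000000000000000000000000000000000000000000000000000000000000000000000000000000000000000000000000000000000000000000000000020000000000000000000000000000000000000000000000000000000000000000000000800000000000000000000000000000000000000000000000000000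
theorem c111k2 : killM K22 [x11] [d11] ([8], 4) [([1], [([3, 4, 5, 1, 2, 3, 4, 8, 9, 8, 6, 4, 5, 2, 3, 4, 8, 7, 6, 5, 4, 3, 2], 1), ([8, 6, 3, 4, 5, 2, 3, 4, 8, 9, 5, 6, 4, 5, 3, 4, 8, 7, 6, 5, 4, 3, 2], 1), ([7, 6, 5, 1, 2, 3, 4, 8, 9, 5, 6, 3, 4, 5, 2, 3, 4, 8, 7, 6, 5, 4, 3, 2], 1), ([9, 8, 6, 3, 4, 5, 2, 3, 4, 8, 9, 5, 6, 3, 4, 5, 2, 3, 4, 8, 7, 6, 5, 4, 3, 2], 1)]), ([1, 1, 1, 1, 1], [([3, 4, 8, 9, 5, 4, 8, 6, 5, 4, 3, 2], 1)]), ([1, 1, 1], [([1, 2, 3, 4, 8, 9, 5, 2, 3, 4, 8, 6, 5, 4, 3, 2], 1), ([7, 6, 4, 5, 2, 3, 4, 8, 9, 8, 6, 4, 5, 2, 3, 4, 8, 7, 6, 5, 4, 3, 2], 1)])] = c111A2 := by decide +kernel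
theorem c111L : levOK K22 12 [x11] [d11] ([8], 4) [] [([], 0)] (Nat.lor (Nat.lor c111A0 c111A1) c111A2) [[5, 4, 6, 8, 2, 9, 1, 3, 4, 8, 7]] [0, 0, 0, 0, 0, 0, 0, 0, 0, 0, 0, 0, 0, 0, 0, 0, 0, 0, 0, 0, 0] 22 = true := by decide +kernel
theorem c11E : endOK K22 [x11] [([8], 4), d11] [1, 0, 1, 0, 1, 0, 1, 0, 1, 0, 1, 0, 1, 0, 1, 0, 1, 0, 1, 0, 1, 0, 1, 0, 1, 0, 1, 0, 1, 0] = true := by decide +kernel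
theorem c11_le (h : Is22 T) : Nat.card (CC T [x11] []) ≤ 22 :=
  (lev22 h c110L (dead_zero T _ _)
    (lev22 h c111L (Dead.lor (Dead.lor (dead_of h (by decide) (by decide) (by decide) c111k0) (dead_of h (by decide) (by decide) (by decide) c111k1)) (dead_of h (by decide) (by decide) (by decide) c111k2))
    (end22 h c11E)) :
    _ ≤ 1 * (22 * 1))

theorem c70L : levOK K22 12 [x7] [] ([], 6) [[0]] [] 0 [] [] 3 = true := by decide +kernel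
theorem c71L : levOK K22 12 [x7] [([], 6)] ([], 7) [[0]] [([], 0)] 0 [] [] 2 = true := by decide +kernel
def c72A0 : ℕ := nat_lit 0x300000020000040000000150000080001000000640001000000008000000000000000000000000000000000000000000000000004002
theorem c72k0 : killM K22 [x7] [([], 7), ([], 6)] ([], 1) [([1], [([2], 1), ([3, 2], 1), ([5, 6, 4, 5, 3, 4, 8, 7, 6, 5, 4, 3], 2), ([5, 3, 4, 8, 9, 6, 5, 4, 8, 7, 6, 5, 4], 3), ([8, 9, 5, 6, 4, 5, 3, 4, 8, 7, 6, 5, 4, 3], 2), ([4, 5, 3, 4, 8, 9, 6, 5, 4, 8, 7, 6, 5, 4], 3)]), ([1, 1], [([5, 4, 8, 9, 6, 5, 4, 8, 7, 6, 5, 4], 3), ([5, 6, 4, 5, 3, 4, 8, 7, 6, 5, 4, 3, 2], 1), ([8, 5, 6, 4, 5, 3, 4, 8, 7, 6, 5, 4, 3], 2), ([9, 5, 6, 4, 5, 3, 4, 8, 7, 6, 5, 4, 3], 2), ([5, 6, 4, 5, 2, 3, 4, 8, 7, 6, 5, 4, 3, 2], 1), ([4, 8, 5, 6,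 4, 5, 3, 4, 8, 7, 6, 5, 4, 3], 2), ([8, 5, 6, 4, 5, 2, 3, 4, 8, 7, 6, 5, 4, 3, 2], 1), ([4, 8, 5, 6, 4, 5, 3, 4, 8, 7, 6, 5, 4, 3, 2], 1)]), ([1, 1, 1], [([9, 5, 6, 4, 5, 3, 4, 8, 7, 6, 5, 4, 3, 2], 1), ([5, 2, 3, 4, 8, 9, 6, 5, 4, 8, 7, 6, 5, 4], 3)])] = c72A0 := by decide +kernel
theorem c72L : levOK K22 12 [x7] [([], 7), ([], 6)] ([], 1) [] [([], 0), ([], 1)] c72A0 [x7] [0, 0, 0, 0, 0, 0] 14 = true := by decide +kernel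
theorem c73L : levOK K22 12 [x7] [([], 1), ([], 7), ([], 6)] ([], 5) [] [([], 0), ([], 1), ([0], 0), ([], 2), ([0, 0], 0), ([0, 0, 0, 0], 0), ([0, 0, 0, 0, 0], 0)] 0 [] [] 1 = true := by decide +kernel
theorem c7E : endOK K22 [x7] [([], 5), ([], 1), ([], 7), ([], 6)] [4, 1, 0, 1, 2, 0, 1, 4, 3, 2, 0, 1, 4, 0, 1, 3, 0] = true := by decide +kernel
theorem c7_le (h : Is22 T) : Nat.card (CC T [x7] []) ≤ 84 :=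
  (lev22 h c70L (dead_zero T _ _)
    (lev22 h c71L (dead_zero T _ _)
    (lev22 h c72L (dead_of h (by decide) (by decide) (by decide) c72k0)
    (lev22 h c73L (dead_zero T _ _)
    (end22 h c7E)))) :
    _ ≤ 3 * (2 * (14 * (1 * 1))))

theorem a13 : weq K22 (wpow x13 13) [] = true := by decide +kernel
theorem b13 : wmv K22 x13 ([], 1) = true := by decide +kernel
theorem a11 : weq K22 (wpow x11 11) [] = true := by decide +kernel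
theorem b11 : wmv K22 x11 ([], 1) = true := by decide +kernel
theorem e11 : weq K22 (wpow y11 5) [] = true := by decide +kernel
theorem f11 : weq K22 (y11 ++ x11) (wpow x11 9 ++ y11) = true := by decide +kernel
theorem g11 : K22.fixOK [x11, y11] [d11] = true := by decide +kernel
theorem a7 : weq K22 (wpow x7 7) [] = true := by decide +kernel
theorem b7 : wmv K22 x7 ([], 1) = true := by decide +kernel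
theorem e7 : weq K22 (wpow y7 6) [] = true := by decide +kernel
theorem f7 : weq K22 (y7 ++ x7) (wpow x7 3 ++ y7) = true := by decide +kernel
theorem g7 : genOK K22 [([], 6), ([], 7)] [0] (fx K22 12 x7) = true := by decide +kernel
theorem s7 : strOK K22 [([], 6), ([], 7)] = true := by decide +kernel
theorem k7 : K22.fixOK [y7] [([], 6), ([], 7)] = true := by decide +kernel

end P22

open P22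

namespace Is22

variable (h : Is22 T)
include h

theorem conj13 {X Y : Subgroup G} (hX : Nat.card X = 13) (hY : Nat.card Y = 13) :
    ∃ g : G, X.map (MulAut.conj g).toMonoidHom = Y :=
  have := h.finite
  have : Fact (Nat.Prime 13) := ⟨by norm_num⟩
  conj_of_card (p := 13) (e := 1) (m := 4966288588800) h.card (by decide) hX hY

theorem norm13 {X : Subgroup G} (hX : Nat.card X = 13) :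
    Nat.card (normalizer (X : Set G)) = 78 ∧ centralizer (X : Set G) = X := by
  have := h.finite
  have : Fact (Nat.Prime 13) := ⟨by norm_num⟩
  obtain ⟨T', h', rfl⟩ := h.exists_model
    (h.conj13 ((Nat.card_zpowers _).trans (h.ord a13 b13)) hX)
  have h1 := c13_le h'
  rw [CC_one, ← cent_zpowers] at h1
  have h2 := eq_of_le_of_card_ge (le_centralizer (zpowers (wv T'.el x13))) (hX ▸ h1)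
  refine ⟨?_, h2.symm⟩
  obtain ⟨k, h3, h4⟩ := exists_card_normalizer (zpowers (wv T'.el x13))
  obtain ⟨n, h5, h6⟩ := exists_sylow_count (p := 13) (e := 1) (m := 4966288588800) h.card
    (by decide) hX
  rw [card_mulAut_prime (by norm_num) hX] at h3
  rw [← h2, hX] at h4
  rw [h4, h.card] at h6
  rw [h4]
  have := Nat.le_of_dvd (by decide) h3
  interval_cases k <;> omega

theorem conj11 {X Y : Subgroup G} (hX : Nat.card X = 11) (hY : Nat.card Y = 11) :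
    ∃ g : G, X.map (MulAut.conj g).toMonoidHom = Y :=
  have := h.finite
  have : Fact (Nat.Prime 11) := ⟨by norm_num⟩
  conj_of_card (p := 11) (e := 1) (m := 5869250150400) h.card (by decide) hX hY

theorem norm11 {X : Subgroup G} (hX : Nat.card X = 11) :
    ∃ d ∈ D, NStr X (zpowers d) (normalizer (X : Set G)) 55 := by
  have := h.finite
  have : Fact (Nat.Prime 11) := ⟨by norm_num⟩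
  obtain ⟨T', h', rfl⟩ := h.exists_model
    (h.conj11 ((Nat.card_zpowers _).trans (h.ord a11 b11)) hX)
  have h1 := c11_le h'
  rw [CC_one, ← cent_zpowers] at h1
  have hd := T'.val_mem (h'.okP (p := d11) (by decide))
  have c1 := h'.fixOK g11 x11 (by simp) d11 (by simp)
  have c2 := h'.fixOK g11 y11 (by simp) d11 (by simp)
  have hk : ∀ j < 5, 0 < j → 9 ^ j % 11 ≠ 1 := by decide
  obtain ⟨a1, -, a3⟩ := frob_card (h'.ord a11 b11) Fact.out (h'.pow_eq_one e11) (h'.cj_eq_pow f11)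
    (by decide) hk
  refine ⟨_, hd, nstr_of (h'.ord a11 b11) Fact.out (h'.pow_eq_one e11) (h'.cj_eq_pow f11)
    (by decide) hk ?_ ?_ (fun z hz hz' _ => ?_) a3 ((zpowers_le.2 ?_).trans
      (centralizer_le_normalizer _)) fun h2 => ?_⟩
  · rintro _ ⟨k, rfl⟩; exact c1.zpow_right k
  · rintro _ ⟨k, rfl⟩; exact c2.zpow_right k
  · have b1 := orderOf_dvd_natCard _ hz
    have b2 := orderOf_dvd_natCard _ hz'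
    rw [Nat.card_zpowers, T'.tt.1 _ hd] at b1
    rw [a1] at b2
    exact orderOf_eq_one_iff.1 (Nat.eq_one_of_dvd_coprimes (by decide) b1 b2)
  · rw [cent_zpowers]; exact mem_cent.2 c1.symm
  rw [Nat.card_zpowers, T'.tt.1 _ hd] at h2 ⊢
  obtain ⟨k, h3, h4⟩ := exists_card_normalizer (zpowers (wv T'.el x11))
  obtain ⟨n, h5, h6⟩ := exists_sylow_count (p := 11) (e := 1) (m := 5869250150400) h.card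
    (by decide) hX
  rw [card_mulAut_prime (by norm_num) hX] at h3
  have h7 := Nat.mul_le_mul h1 (Nat.le_of_dvd (by decide) h3)
  rw [← h4] at h7
  obtain ⟨c, hc⟩ := h2
  rw [hc, h.card] at h6
  rw [hc] at h7 ⊢
  have : c ≤ 2 := by omega
  interval_cases c <;> omega

theorem conj7 {X Y : Subgroup G} (hX : Nat.card X = 7) (hY : Nat.card Y = 7) :
    ∃ g : G, X.map (MulAut.conj g).toMonoidHom = Y :=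
  have := h.finite
  have : Fact (Nat.Prime 7) := ⟨by norm_num⟩
  conj_of_card (p := 7) (e := 1) (m := 9223107379200) h.card (by decide) hX hY

theorem norm7 {X : Subgroup G} (hX : Nat.card X = 7) :
    NStr X (closure (D ∩ (centralizer (X : Set G) : Set G))) (normalizer (X : Set G)) 42 ∧
    Nonempty (closure (D ∩ (centralizer (X : Set G) : Set G)) ≃* Equiv.Perm (Fin 3)) := by
  have := h.finite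
  have : Fact (Nat.Prime 7) := ⟨by norm_num⟩
  obtain ⟨T', h', rfl⟩ := h.exists_model
    (h.conj7 ((Nat.card_zpowers _).trans (h.ord a7 P22.b7)) hX)
  have h1 := c7_le h'
  rw [CC_one, ← cent_zpowers] at h1
  refine h'.nstr_perm (k := 6) Fact.out (h'.ord a7 P22.b7) e7 f7 (by decide) (by decide) g7 s7
    (by decide) k7 fun h2 => ?_
  obtain ⟨k, h3, h4⟩ := exists_card_normalizer (zpowers (wv T'.el x7))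
  obtain ⟨n, h5, h6⟩ := exists_sylow_count (p := 7) (e := 1) (m := 9223107379200) h.card
    (by decide) hX
  rw [card_mulAut_prime (by norm_num) hX] at h3
  have h7 := Nat.mul_le_mul h1 (Nat.le_of_dvd (by decide) h3)
  rw [← h4] at h7
  obtain ⟨c, hc⟩ : 252 ∣ _ := h2
  rw [hc, h.card] at h6
  show _ ≤ 252
  rw [hc] at h7 ⊢
  have : c ≤ 2 := by omega
  interval_cases c <;> omega

end Is22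

end Cfsg.Agent.H52.Fi
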