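/-
Simple groups with a Klein four Sylow `2`-subgroup: the class multiplication formula in the
principal `2`-block.
-/
import Cfsg.Agent.H8.Q8Klein
import Cfsg.Agent.H5.Burnside
import Cfsg.Agent.H88.PLocal

set_option autoImplicit false

namespace Cfsg.Agent.H52

open Cfsg

variable {G : Type*} [Group G]

theorem three_le_degree [Finite G] [IsSimpleGroup G] (hG : ¬ IsMulCommutative G) {χ : G → ℂ}
    (hχ : IsIrrCharacter G χ) (h1 : χ ≠ fun _ => 1) {n : ℤ} (hn : Odd n) (e : χ 1 = n) :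
    3 ≤ n := by
  obtain ⟨m, hm, e'⟩ := H5.exists_pos_nat_degree hχ
  have h2 : n = m := by
    rw [e'] at e
    exact_mod_cast e.symm
  have h3 : m ≠ 1 := by
    rintro rfl
    obtain ⟨lam, rfl⟩ := H5.exists_monoidHom_of_degree_one (H5.isCharacter_of_isIrr hχ)
      (by simpa using e')
    refine hG ⟨⟨fun a b => ?_⟩⟩
    have := H5.eq_one_of_simple_of_apply_eq hχ h1 (g := a * b * a⁻¹ * b⁻¹) (by
      simp only [map_mul, map_inv, map_one, mul_inv_cancel_comm, mul_inv_cancel])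
    calc a * b = (a * b * a⁻¹ * b⁻¹) * (b * a) := by group
      _ = b * a := by rw [this, one_mul]
  obtain ⟨k, hk⟩ := hn
  omega

theorem klein_ineq {a b c : ℚ} (ha : 3 ≤ a) (hb : 3 ≤ b) (hc : c + 1 = a + b) :
    8 / 15 ≤ 1 + 1 / c - 1 / a - 1 / b := by
  obtain ⟨x, rfl⟩ : ∃ x, a = 3 + x := ⟨a - 3, by ring⟩
  obtain ⟨y, rfl⟩ : ∃ y, b = 3 + y := ⟨b - 3, by ring⟩
  have hx : 0 ≤ x := by linarith
  have hy : 0 ≤ y := by linarith
  obtain rfl : c = 5 + x + y := by linarith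
  rw [← sub_nonneg]
  have : 1 + 1 / (5 + x + y) - 1 / (3 + x) - 1 / (3 + y) - 8 / 15 =
      (48 * x + 48 * y + 6 * x ^ 2 + 62 * x * y + 6 * y ^ 2 + 7 * x ^ 2 * y + 7 * x * y ^ 2) /
        (15 * (5 + x + y) * (3 + x) * (3 + y)) := by
    field_simp
    ring
  rw [this]
  positivity

open Classical in
theorem klein_count [Fintype G] [IsSimpleGroup G] (hG : ¬ IsMulCommutative G) (P : Sylow 2 G)
    (hP : IsKleinFour (P : Subgroup G))
    (hone : ∀ s t : G, orderOf s = 2 → orderOf t = 2 → IsConj s t) {t : G} (ht : orderOf t = 2) :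
    2 * Nat.card G ≤
      15 * (Finset.univ.filter fun x : G => 2 ∣ orderOf (t * (x * t * x⁻¹))).card := by
  obtain ⟨M, hM⟩ := H88.exists_isPModular Nat.prime_two
  obtain ⟨ζ₂, ζ₃, ζ₄, ε, hε, hnd, hB, ⟨n₂, o₂, e₂⟩, ⟨n₃, o₃, e₃⟩, hreg, -⟩ :=
    H8.klein_block hM P hP hone
  simp only [List.nodup_cons, List.mem_cons, List.not_mem_nil, or_false, not_or,
    List.nodup_nil, and_true, not_false_eq_true] at hnd
  obtain ⟨⟨h12, h13, h14⟩, ⟨h23, h24⟩, h34⟩ := hnd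
  have hev : ∀ χ ∈ principalBlock M G, ∀ g : G, 2 ∣ orderOf g →
      (χ : G → ℂ) g = (χ : G → ℂ) t := by
    intro χ hχ g hg
    obtain ⟨z, hz, h1⟩ := H8.principal_apply_even_of_klein hM P hP hg
    obtain ⟨c, hc⟩ := isConj_iff.1 (hone t z ht hz)
    rw [h1 χ hχ, ← hc]
    exact H5.isClassFunction_of_isIrr χ.2 _ _
  set f : G → ℂ := (H33.oneIrr G : G → ℂ) + (ζ₂ : G → ℂ) + (ε : ℂ) • (ζ₃ : G → ℂ) - ζ₄ with hf
  have hf' : ∀ g, f g = 1 + (ζ₂ : G → ℂ) g + (ε : ℂ) * (ζ₃ : G → ℂ) g - (ζ₄ : G → ℂ) g :=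
    fun g => rfl
  have m1 := (hB _).2 (Or.inl rfl)
  have m2 := (hB _).2 (Or.inr (Or.inl rfl))
  have m3 := (hB _).2 (Or.inr (Or.inr (Or.inl rfl)))
  have m4 := (hB _).2 (Or.inr (Or.inr (Or.inr rfl)))
  have hf0 : ∀ g, ¬ 2 ∣ orderOf g → f g = 0 := fun g hg => by rw [hf', hreg g hg, sub_self]
  have hf1 : ∀ g, 2 ∣ orderOf g → f g = f t := fun g hg => by
    rw [hf', hf', hev _ m2 g hg, hev _ m3 g hg, hev _ m4 g hg]
  have hin : ∀ χ ∈ principalBlock M G, classInner (χ : G → ℂ) f =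
      (χ : G → ℂ) t * classInner (H33.oneIrr G : G → ℂ) f := by
    intro χ hχ
    simp only [classInner]
    rw [mul_left_comm, Finset.mul_sum _ _ ((χ : G → ℂ) t)]
    congr 1
    refine Finset.sum_congr rfl fun g _ => ?_
    by_cases hg : 2 ∣ orderOf g
    · rw [hev χ hχ g hg, H33.oneIrr_apply, one_mul]
    · rw [hf0 g hg]; simp
  have hεc : (starRingEnd ℂ) (ε : ℂ) = ε := map_intCast _ _
  have hcalc : ∀ χ : IrrCharacter G, classInner (χ : G → ℂ) f =
      (if χ = H33.oneIrr G then 1 else 0) + (if χ = ζ₂ then 1 else 0) +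
        (ε : ℂ) * (if χ = ζ₃ then 1 else 0) - (if χ = ζ₄ then 1 else 0) := by
    intro χ
    rw [hf, H5.classInner_sub_right, H5.classInner_add_right, H5.classInner_add_right,
      H5.classInner_smul_right, hεc]
    simp only [H5.classInner_irrCharacter]
  have i1 : classInner (H33.oneIrr G : G → ℂ) f = 1 := by rw [hcalc]; simp [h12, h13, h14]
  have a2 : (ζ₂ : G → ℂ) t = 1 := by
    have := hin _ m2
    rw [i1, mul_one, hcalc] at this
    simpa [Ne.symm h12, h23, h24] using this.symm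
  have a3 : (ζ₃ : G → ℂ) t = ε := by
    have := hin _ m3
    rw [i1, mul_one, hcalc] at this
    simpa [Ne.symm h13, Ne.symm h23, h34] using this.symm
  have a4 : (ζ₄ : G → ℂ) t = -1 := by
    have := hin _ m4
    rw [i1, mul_one, hcalc] at this
    simpa [Ne.symm h14, Ne.symm h24, Ne.symm h34] using this.symm
  have hεε : (ε : ℂ) * ε = 1 := by rcases hε with rfl | rfl <;> simp
  have hft : f t = 4 := by rw [hf', a2, a3, a4, hεε]; norm_num
  have e₄ : (ζ₄ : G → ℂ) 1 = ((1 + n₂ + ε * n₃ : ℤ) : ℂ) := by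
    rw [hreg 1 (by simp), e₂, e₃]; push_cast; rfl
  have o₄ : Odd (1 + n₂ + ε * n₃) := by
    obtain ⟨a, rfl⟩ := o₂
    obtain ⟨b, rfl⟩ := o₃
    rcases hε with rfl | rfl
    · exact ⟨a + b + 1, by ring⟩
    · exact ⟨a - b, by ring⟩
  have l₂ := three_le_degree hG ζ₂.2 (fun e => h12 (Subtype.ext e.symm)) o₂ e₂
  have l₃ := three_le_degree hG ζ₃.2 (fun e => h13 (Subtype.ext e.symm)) o₃ e₃
  have l₄ := three_le_degree hG ζ₄.2 (fun e => h14 (Subtype.ext e.symm)) o₄ e₄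
  set n₄ := 1 + n₂ + ε * n₃ with hn₄
  set N := (Finset.univ.filter fun x : G => 2 ∣ orderOf (t * (x * t * x⁻¹))).card with hN
  have s1 : ∑ x : G, f (t * (x * t * x⁻¹)) = 4 * N := by
    rw [← Finset.sum_filter_of_ne (p := fun x : G => 2 ∣ orderOf (t * (x * t * x⁻¹)))
      (fun x _ hx => by by_contra hc; exact hx (hf0 _ hc)),
      Finset.sum_congr rfl (g := fun _ => (4 : ℂ))
        (fun x hx => by rw [hf1 _ (Finset.mem_filter.1 hx).2, hft])]
    simp [hN, mul_comm]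
  have s2 : ∑ x : G, f (t * (x * t * x⁻¹)) =
      (Nat.card G : ℂ) * (1 + 1 / n₂ + ε / n₃ - 1 / n₄) := by
    simp only [hf', Finset.sum_sub_distrib, Finset.sum_add_distrib, ← Finset.mul_sum,
      H5.sum_irr_mul_conj_eq ζ₂.2, H5.sum_irr_mul_conj_eq ζ₃.2, H5.sum_irr_mul_conj_eq ζ₄.2,
      Finset.sum_const, Finset.card_univ, nsmul_eq_mul, mul_one, ← Nat.card_eq_fintype_card,
      a2, a3, a4, e₂, e₃, e₄]
    rw [mul_assoc (Nat.card G : ℂ) (ε : ℂ), hεε]
    ring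
  have s3 : (4 * N : ℚ) = (Nat.card G : ℚ) * (1 + 1 / n₂ + ε / n₃ - 1 / n₄) := by
    rw [s1] at s2
    exact_mod_cast s2
  have q₂ : (3 : ℚ) ≤ n₂ := by exact_mod_cast l₂
  have q₃ : (3 : ℚ) ≤ n₃ := by exact_mod_cast l₃
  have q₄ : (3 : ℚ) ≤ n₄ := by exact_mod_cast l₄
  have s4 : (8 / 15 : ℚ) ≤ 1 + 1 / n₂ + ε / n₃ - 1 / n₄ := by
    rcases hε with rfl | rfl
    · have h1 : (1 : ℚ) / n₄ ≤ 1 / 3 := one_div_le_one_div_of_le (by norm_num) q₄
      have h2 : (0 : ℚ) ≤ 1 / n₂ := by positivity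
      have h3 : (0 : ℚ) ≤ 1 / n₃ := by positivity
      push_cast
      linarith
    · have := klein_ineq q₃ q₄ (c := n₂) (by rw [hn₄]; push_cast; ring)
      push_cast
      rw [neg_div]
      linarith
  have s5 : (2 * Nat.card G : ℚ) ≤ 15 * N := by
    have : (0 : ℚ) ≤ Nat.card G := by positivity
    nlinarith
  exact_mod_cast s5

end Cfsg.Agent.H52
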